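import Cfsg.Prelude.Def_Spor_J4
import Cfsg.Agent.Lib.J4.TC4
import Cfsg.Agent.Lib.Big.Tau
import Cfsg.Agent.Lib.Mathieu.Classes
import Cfsg.Agent.S2038

/-!
# The presentation of the fourth Janko group; seven relators define the Mathieu group `M₂₄`
-/

set_option autoImplicit false
set_option maxRecDepth 1000000
set_option maxHeartbeats 0
set_option Elab.async false

namespace Cfsg.Lib.J4

open Cfsg.Lib.Calc Cfsg.Lib.Big Cfsg.Lib.Mathieu Cfsg.Lib.Golay Cfsg.Spor Subgroup

/-- The generators. -/
def num (c : ℕ) : J4.Gen := [J4.Gen.x, J4.Gen.y].getD c .t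

/-- The relators. -/
def rels : List W := [.pow (.l 0) 2,
  .pow (.l 1) 3,
  .pow (.mul (.l 0) (.l 1)) 23,
  .pow (.mul (.mul (.mul (.inv (.l 0)) (.inv (.l 1))) (.l 0)) (.l 1)) 12,
  .pow (.mul (.mul (.mul (.inv (.l 0)) (.inv (.mul (.mul (.l 1) (.l 0)) (.l 1)))) (.l 0)) (.mul (.mul (.l 1) (.l 0)) (.l 1))) 5,
  .pow (.mul (.mul (.l 0) (.l 1)) (.pow (.mul (.mul (.mul (.l 0) (.l 1)) (.l 0)) (.inv (.l 1))) 3)) 4,
  .mul (.pow (.mul (.mul (.mul (.mul (.mul (.l 0) (.l 1)) (.l 0)) (.l 1)) (.l 0)) (.inv (.l 1))) 3) (.pow (.mul (.mul (.mul (.mul (.mul (.l 0) (.l 1)) (.l 0)) (.inv (.l 1))) (.l 0)) (.inv (.l 1))) 3),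
  .pow (.l 2) 2,
  .mul (.mul (.mul (.inv (.l 2)) (.inv (.mul (.mul (.mul (.mul (.l 1) (.l 0)) (.l 1)) (.pow (.mul (.l 0) (.inv (.l 1))) 2)) (.pow (.mul (.l 0) (.l 1)) 3)))) (.l 2)) (.mul (.mul (.mul (.mul (.l 1) (.l 0)) (.l 1)) (.pow (.mul (.l 0) (.inv (.l 1))) 2)) (.pow (.mul (.l 0) (.l 1)) 3)),
  .mul (.mul (.mul (.inv (.l 2)) (.inv (.l 0))) (.l 2)) (.l 0),
  .pow (.mul (.l 1) (.mul (.mul (.inv (.mul (.mul (.mul (.mul (.mul (.mul (.mul (.l 1) (.l 0)) (.inv (.l 1))) (.l 0)) (.l 1)) (.l 0)) (.inv (.l 1))) (.l 0))) (.l 2)) (.mul (.mul (.mul (.mul (.mul (.mul (.mul (.l 1) (.l 0)) (.inv (.l 1))) (.l 0)) (.l 1)) (.l 0)) (.inv (.l 1))) (.l 0)))) 3,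
  .pow (.mul (.mul (.pow (.mul (.mul (.mul (.mul (.mul (.mul (.l 1) (.l 0)) (.l 1)) (.l 0)) (.l 1)) (.l 0)) (.l 1)) 3) (.l 2)) (.mul (.mul (.inv (.mul (.mul (.mul (.pow (.mul (.l 0) (.l 1)) 3) (.l 1)) (.pow (.mul (.l 0) (.l 1)) 6)) (.l 1))) (.l 2)) (.mul (.mul (.mul (.pow (.mul (.l 0) (.l 1)) 3) (.l 1)) (.pow (.mul (.l 0) (.l 1)) 6)) (.l 1)))) 2]

theorem ext_eq : rels.map (W.ev fun c => FreeGroup.of (num c)) = J4.extra := rfl

theorem num_sur (x : J4.Gen) : ∃ c < 3, num c = x := by cases x <;> decide

/-- The generators of the presented group. -/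
def gΓ (c : ℕ) : J4 := PresentedGroup.of (num c)

theorem ev_gΓ (t : W) : t.ev gΓ = PresentedGroup.mk _ (t.ev fun c => FreeGroup.of (num c)) :=
  (W.map_ev (PresentedGroup.mk _) _ t).symm

theorem rels_gΓ : ∀ t ∈ rels, t.ev gΓ = 1 := fun t ht => by
  rw [ev_gΓ]; exact PresentedGroup.one_of_mem (Or.inr (ext_eq ▸ List.mem_map_of_mem ht))

theorem top_gΓ : Top 3 gΓ := fun S h => by
  rw [eq_top_iff, ← PresentedGroup.closure_range_of, Subgroup.closure_le]
  rintro _ ⟨x, rfl⟩
  obtain ⟨c, hc, rfl⟩ := num_sur x
  exact h c hc

universe u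

variable {G : Type*} [Group G] {δ : ℕ → G}

theorem exists_lift (hr : ∀ t ∈ rels, t.ev δ = 1) : ∃ ρ : J4 →* G, ∀ c < 3, ρ (gΓ c) = δ c := by
  choose ix hix e using num_sur
  have k : ∀ c < 3, ix (num c) = c := fun c hc =>
    (by decide : ∀ a < 3, ∀ b < 3, num a = num b → a = b) _ (hix _) _ hc (e _)
  refine ⟨PresentedGroup.toGroup (f := fun x => δ (ix x)) ?_, fun c hc => by rw [gΓ, PresentedGroup.toGroup.of, k c hc]⟩
  rintro r (⟨x, hx, -⟩ | hr')
  · exact absurd hx (by simp [coxNodes, J4.edges])
  · obtain ⟨t, ht, rfl⟩ := List.mem_map.1 (ext_eq.symm ▸ hr' : r ∈ rels.map _)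
    rw [W.map_ev, ← hr t ht]
    exact ev_congr (n := 3) (fun c hc => by rw [FreeGroup.lift_apply_of, k c hc])
      (List.all_eq_true.1 (by decide +kernel : rels.all (ltW 3) = true) t ht)

/-- The relators in `x, y`. -/
def rM : List W := rels.take 7

/-- The letters for coset enumerations. -/
def tcl (δ : ℕ → G) (c : ℕ) : G := (1 :: [δ 0, δ 1, (δ 1)⁻¹]).getD c 1

theorem lab_tcl (e : δ 0 * δ 0 = 1) : Lab (tcl δ) tcI := by
  refine Lab.of_list (show tcI < 2 ^ (5 * 4) by decide +kernel) fun c hc => ?_
  change c < 4 at hc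
  interval_cases c <;> first | exact mul_one _ | exact inv_mul_cancel _ | exact mul_inv_cancel _ | exact e

theorem ev_tcl {t : W} (h : ltW 2 t = true) : (renW Nat.succ t).ev (tcl δ) = t.ev δ := by
  rw [ev_renW]
  exact ev_congr (fun c hc => by interval_cases c <;> rfl) h

theorem xx (hr : ∀ t ∈ rM, t.ev δ = 1) : δ 0 * δ 0 = 1 :=
  (sq _).symm.trans (hr (.pow (.l 0) 2) (W.mem_of_isIn (by decide +kernel)))

theorem lt_rM : rM.all (ltW 2) = true := by decide +kernel

/-- The centraliser of `x` has index at most `31878`. -/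
theorem index_cen (hr : ∀ t ∈ rM, t.ev δ = 1) (ht : Top 2 δ) :
    (centralizer {δ 0}).index ≠ 0 ∧ (centralizer {δ 0}).index ≤ 31878 := by
  have h0 := lab_tcl (xx hr)
  have h1 : ∀ t ∈ tcR, t.ev (tcl δ) = 1 := by
    rw [show tcR = rM.map (renW Nat.succ) from rfl]
    exact List.forall_mem_map.2 fun t k => (ev_tcl (List.all_eq_true.1 lt_rM t k)).trans (hr t k)
  have h2 : ∀ t ∈ ta_loops, t.ev (tcl δ) = 1 := fun t k =>
    mem_bot.1 (ta_mems h0 h1 (fun _ h => absurd h List.not_mem_nil) t k)
  have h3 : ∀ t : W, (W.mul (.mul (.mul t (.l 1)) (.inv t)) (.l 1)).isIn ta_loops = true →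
      t.ev (tcl δ) ∈ centralizer {δ 0} := fun t k => mem_centralizer_singleton_iff.2 (by
    have : t.ev (tcl δ) * δ 0 * (t.ev (tcl δ))⁻¹ * δ 0 = 1 := h2 _ (W.mem_of_isIn k)
    rwa [← xx hr, mul_left_inj, mul_inv_eq_iff_eq_mul] at this)
  have := tb_index h0 (List.forall_mem_append.2 ⟨h1, fun t k => h2 t (List.mem_of_mem_take k)⟩) (K := centralizer {δ 0})
    (List.forall_mem_cons.2 ⟨mem_centralizer_singleton_iff.2 rfl, fun t k => h3 t ((List.all_eq_true
      (p := fun t => (W.mul (.mul (.mul t (.l 1)) (.inv t)) (.l 1)).isIn ta_loops)).1 (by decide +kernel) t k)⟩)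
  rwa [ht (genW (tcl δ) [.l 1, .l 2]) fun c hc => by
    interval_cases c
    exacts [mem_genW _ (t := .l 1) (by simp), mem_genW _ (t := .l 2) (by simp)], relIndex_top_right] at this

def cxy_C : ℕ := (nat_lit 0x45ab4225c59a9ac5c4c30c80fb9c5003933a32113587241eab53c8568457828c4a30ae95ae9186ab8cde0688e85b9332d6c4a1c72441ed132e6028311dab479940245ac5ba5712613404e589de59c8966381568928850d71854b2c64fa300a4d906b8aab7127069c235a8c4056cfa06e91966d3b1128444e6b93333cf72c072459800d63458944241869cae7ab96f00528b16911a84d41de5ba5c698815692835496c8c0365c64f856d3a0906b808d0b0692b8ea6a8c494c28016e91d990155d459e2f441868a5d49856f05ca3149b52594719de56504bb90156ba510a6d342a066c64f4904380106bd9853d554585d3195927195420973820173a5b57da21b8660650eb43e156a92e11ac41c4b21c186a942d8dd6f03a44524f340ad46924cb3cf3285148aee05546933a0200a9794d4859a2919eb60bdc56c08c408906502b1ccb56c4ca3cacfbb809584b194c486d0891c1e7531c605af50b9e51c8978d6caa1967141a964d00641469a6efab688758478aca11924043ecb98995550c76c091bb8b218520936a51a42cbaa1632dd123e8244ce03d60e9910ab1971a3c37634a91c8403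c5d41cd4f31602b5d240d5b2621604d14518a48659f05b9b70d4c43ce208a9ed984f682dd73564c450a21a48013ef51a4e6742842c501559ab64a608dda61ced5595e48304192a8941dc0112a560cd1836f37056943ed251e8011ac519127442af7368c929618cee09c42f62c50adca9690e833ad454860bb28b1ce0a716a17a0924d8c23c5a0206d060dcfa3629baa68918ab38aa02054540d777d1936c9c23d609b44c09a5ed53204bd823aa28b3c5d2308a022e05184513bd556d0c84d9d2bcd800a8b460ee6ab5e889d325ba13112c00ca0f40db5352e265a674acae891404a1d7532b12d88b09867941b414de04a0cd3b28189543b4ab313eeb712004b5151de463ba025588f615738d0203916ebcea333c52a24a8b460c6a820b328f3dd6d8995371608254721242064d4e48d1129e97a916f6c8c2858202890b69e71b3c6a4918694297ab820241e88a6e5638d4b366712d4395420249c6b1e82ac5377c06862db35142068aa762550916c372ccf9a237a102010ece245f25b2a944d4785cb4334208291415af5219a92b25198dc75bc2060cc8a94f093e2e20af65512d9ac20998ef9112b138b56c06ca2ad1ba02064df1259ca5d4a730da8950574c02012976915239c08d7d226ba2a7730208510c112c6badb1728a71be49acc201a50e510eb6444584a75bb5f6a1820359f5a35289960458af21c5cc51c2095cd5611e9a2e168b4489b94728c2052684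9c0adb8d8233ab13a1767c8201b912530913d0557a61669a655dc206950f4b2d4955501ceeb388c474420ad2ce43ccd4de445b21151663388208152371ae77b57154d1265494b0820391166d60c7ad579ba468a683288206ce07b96aa4c9666222f2586ea082048cad93eab440d4544f7991d660820b3a978a4b2855e3591a664d0750820652455a4f17aa70734d5ba0762082050e34959a44ad9545de5341c798820921aaacecc83d65244c91d0f7708204588b33d2a91ea39dd90751a58882061cce7d24382c968d5332b6ea40820349734b8b13bd44a5ea8b0d90688207c64cb22846a573198b03b955b88208d06b2a60c7aac74548dbba53308208b2ad78cd63aa85ba50e22e1390820a994e4349763e741c1322da27588207dcd12c8745a14eb54876366980820499e4a45c3941683966d55d96a8820312d249cb4531d3ac2371ada878820455f41ddb631d52611cb9c22548820a30ae85eb344a295188f59db618820b488cba96e898e8ace858352f18820929e8b4ea65b60525d8971e911882065ec9a1952a9d6f2c1cd9c4881882062126758972a9749b5f1ac0f218820725b29d0b07dea431ec852e2c1882054e2595c8da9dc97d9143418b18820b990f640a75466db512492dd51882045a546366a242b14b8c7bade5188204168d349f64ceacb9e2b23a0a188204bc87932d46994e845152cd771882091237839b3450b63ad8f32aa9188207b2ee4c60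6b4cb5248eba290d188202a5876aa32a5c88b4175799d3188207b5d13dd0c240a9a2eaab4a6618820222cbba58e89cd29d5e56c154188208a2c6a2dcd95d247aa1564ca7188206912b89ab7752cf64d4541e5018820b3d8aa1132aacf78150d8ccce188207c68d4c90b342a7730b655e641882033a70abd349590c2aa2d3dd64188206dcc97ae9044aca71e33616a418820b34b1439309aee79328f554c418820abee5339abb4a2c829093ce84188202c9f0322295de6aa9e96635c418820451368ae6e2c0cc92ab73b5e418820321b52cacebae8a81e7163d2418820721696da34a94c77b21254ee4188209c8cbbd90573d2ca29b13d60418820a19f3bc2ae8c9075b2c5525a418820aad102ce91735e73313755a44188205be54bb53129aaa99e0e622c4188209a637a39f2ac0aa59ccd65904188202cec6aaef26b927831f452224188208bcd6925d5a5d674326d540a4188207520f4cee6b450a69e4b654a418820bdab49ca307b9ac5a928398a418820)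
noncomputable def cxy_code : ℕ → ℕ := get (nat_lit 120) cxy_C
def cxy_U0 : ℕ := (nat_lit 0xf203c007200e801d603a407b80fa01dc03cc07880e601ea03bc07280f801da03b007b00f201e8039c075008000)
def cxy_R0 : ℕ := (nat_lit 0x10000000000000000028182bd4b0300000b0000000000000000e9775655840c00002a0000000000000002406171b638280000a00000000000000013000000000000000080000000000000005000000000000000048000000000000000c0000000000000001c000000000000000400000000000000002800000000000000110000000000000002600000000000000018000000000000000500000000000000016000fa5ccc0800001a0000000000000000c33b91686028000060000000000000001204ba3e6800a000016000000000000000200000000000000008800000000000000070000000000000000c0000000000000005400000000000000018000000000000000b000000000000000020000000000000002800000000000000090000000000000000f00000000000000000000000000000000100000000000000007800000000000000050000000000000002e00000000000000034067a0e1a8280000380000000000000001019308f360a00000400000000000000008000000000000000800000000000000017)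
def cxy_D0 : ℕ := (nat_lit 0x16385b8294f288ff2eb65211cc114c31758000240240000000000187765706042cb211283f4fe8b53020d8000000000000000000000000000000000000073c0800000000000000000000000000000000000002ca040000000000000000000000000000000000000155020000000000000000000000000000000000000098810000000000000000000000000000000000000043c0800000000000000000000000000000000000001dc0400000000000000000000000000000000000000d002000000000000000000000000000000000000005a01000000000000000000000000000000000000002a4080000000000000000000000000000000000000120040000000000000000000000000000000000000060020000000000000000000000000000000000000026810000000000000000000000000000000000000011c08000000000000000000000000000000000000006e04000000000000000000000000000000000000002102000000000000000000000000000000000000000a8100000000000000000000000000000000000000030080000000000000000000000000000000000000016040000000000000000000000000000000000000000020000000000000000000000000000000000000000810000000000000000000000000000000000000000808000000000000000000000000000000000000000000000000000000000000000000000000000000000000)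
noncomputable def cxy_L0 : Calc.Lv :=
  ⟨(nat_lit 121), (nat_lit 123), (nat_lit 0), (nat_lit 24), (nat_lit 0), get (nat_lit 15) cxy_U0,
    fun l x => get (nat_lit 67) cxy_R0 (Nat.add (Nat.mul x (nat_lit 2)) (Nat.sub l (nat_lit 121))), get (nat_lit 169) cxy_D0⟩
def cxy_U1 : ℕ := (nat_lit 0x16006880d501b2036c07100dd019c033c06d00d601a4037806800e101c6038006a00d301b8035c06f808000)
def cxy_R1 : ℕ := (nat_lit 0x252f4860280000000000000000000b9788ec40a00001a027fe841000003c00000000000007000000000000009000000000000008000000000000014000000000000012b1eb5905000012022415e0800002200000000000002270032a02800001800000000000016079b83a0800002c0237b2c100000383f107282000008254e24b050000140000000000000280000000000000300000000000000a8352b45040000130891dae0800001200000000000001c0000000000000980000000000000d9cf7ab40a00000aa3a204814000054000000000000050000000000000019cee6920a00000c00000000000001a612aa50280000080000000000001000000000000001e0000130040000283070e58200000624dbd8505000004000009a02000010000000000000002486b25028000058261cf40400000200000000000002400000000000000c00000000000003800000000000011)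
def cxy_D1 : ℕ := (nat_lit 0x474c00b9bc1242b080000013b0200000118020000010b02000000ea02000000bc02000000a00200000097020000007e0200000076020000006002000000430200000032020000002e0200000020020000001d0200000013020000000a0200000009020000000102000000030200000000000000000000)
noncomputable def cxy_L1 : Calc.Lv :=
  ⟨(nat_lit 98), (nat_lit 100), (nat_lit 1), (nat_lit 23), (nat_lit 0), get (nat_lit 15) cxy_U1,
    fun l x => get (nat_lit 59) cxy_R1 (Nat.add (Nat.mul x (nat_lit 2)) (Nat.sub l (nat_lit 98))), get (nat_lit 40) cxy_D1⟩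
def cxy_U2 : ℕ := (nat_lit 0x1d00ca0190033405f80bb0172030406200c9018a030006180cc0196030805e80be018e031805e008000)
def cxy_R2 : ℕ := (nat_lit 0x1b8520600000ee662c10000014000000000005b327704000002000000000000c0000000000024000000000009800000000000cc5af808000002000000000005710288200000ae06f1040000110239406000020216180c00004c088b018000020000000000001000000000000a00000000000117f7d82000006000000000000d764ee0800001d7aba81000000198558200000000000000000101086206000010cd1b81000004800000000000a00000000000070000000000004000000000000d9f77820000068131403000006695ec080000157de74100000500a3481800001800000000000f6cc32080000120000000000038000000000008800000000000a126b60600001e17b640c00002c0000000000090000000000008)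
def cxy_D2 : ℕ := (nat_lit 0x94fbb05c08c22da9d6710b000000012d02000000010b0200000000eb0200000000cd02000000009002000000008802000000006202000000005c02000000004902000000003702000000003302000000002502000000001802000000000e02000000000d02000000000002000000000102000000000302000000000302000000000000000000000000)
noncomputable def cxy_L2 : Calc.Lv :=
  ⟨(nat_lit 76), (nat_lit 78), (nat_lit 2), (nat_lit 22), (nat_lit 0), get (nat_lit 15) cxy_U2,
    fun l x => get (nat_lit 51) cxy_R2 (Nat.add (Nat.mul x (nat_lit 2)) (Nat.sub l (nat_lit 76))), get (nat_lit 48) cxy_D2⟩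
def cxy_U3 : ℕ := (nat_lit 0x2c01dc06701d407101a806f01a006601c006d01d006901cc06501b807801ac07601c804000)
def cxy_R3 : ℕ := (nat_lit 0x120000000000d000000000110000000000200000000013000000000060000000000b1af02000000000000000050820200000b0000000000c13e0200000300000000003c12030000140040100000a70703000004291020000061180200000c000000000140000000000ac830300000f0000000000822a020000010000000000e7c603000008289020000076c4030000091d40200001011f0200000d674030000050880200000e0000000000f00000000007000000000091fe020000027f003000012000000000100000000000172a03000000201020000110000000000400000000013)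
def cxy_D3 : ℕ := (nat_lit 0x8292960f7dfd73d13c34501100000000000000a20100000000000003f008000000000000198040000000000000c102000000000000053010000000000000234080000000000000ea040000000000000600200000000000002c8100000000000001180800000000000004a040000000000000180200000000000000701000000000000003408000000000000000040000000000000010200000000000000181000000000000000c080000000000000000000000000000000000)
noncomputable def cxy_L3 : Calc.Lv :=
  ⟨(nat_lit 55), (nat_lit 57), (nat_lit 3), (nat_lit 21), (nat_lit 0), get (nat_lit 14) cxy_U3,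
    fun l x => get (nat_lit 44) cxy_R3 (Nat.add (Nat.mul x (nat_lit 2)) (Nat.sub l (nat_lit 55))), get (nat_lit 69) cxy_D3⟩
def cxy_U4 : ℕ := (nat_lit 0x680640174055015c0600188053018c052016005f017805b01640610150056017004000)
def cxy_R4 : ℕ := (nat_lit 0x42702000012000000002000000000ecc08000004e0100000000000000291010000080000000031e02000013000000004c0000000060000000044000000007c00800003f10200000a000000001000000000d0000000039702000002cc080000340000000030000000015902000004bc08000018f01000011000000000800000000f0000000001b020000106c0800002c000000001680800001f30200000cb80800000e1020000090000000024f01000005000000004800000000b)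
def cxy_D4 : ℕ := (nat_lit 0xe0f4773c19230a4b834801010e00002590d7c26e0580000000000043808000000000001ba04000000000000c1020000000000004b010000000000001f808000000000000ec0400000000000060020000000000001b810000000000000a0080000000000004a04000000000000190200000000000007010000000000000340800000000000000040000000000000102000000000000018100000000000000c0800000000000000000000000000000000)
noncomputable def cxy_L4 : Calc.Lv :=
  ⟨(nat_lit 35), (nat_lit 37), (nat_lit 4), (nat_lit 20), (nat_lit 0), get (nat_lit 14) cxy_U4,
    fun l x => get (nat_lit 38) cxy_R4 (Nat.add (Nat.mul x (nat_lit 2)) (Nat.sub l (nat_lit 35))), get (nat_lit 65) cxy_D4⟩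
def cxy_U5 : ℕ := (nat_lit 0x4809405e02d018809804602801580b004e030015009005c02000)
def cxy_R5 : ℕ := (nat_lit 0x40400001c00000001404000015010000090000000180000000f0000000320100000b000000004000000050000000200000000300000000d0100000d00000001e0100000a80400001c000000040000000090100000300000003201000004000000031010000080000000050100000a000000008000000080000000380000000a000000035010000028040000390100000600000000000000006000000002010000090000000260100000e8040000140000000b80400003c0000000f0000000000000000b0000000100000000d)
def cxy_D5 : ℕ := (nat_lit 0xa2f7e5084800001900800000a004000003d02000001c81000000a008000004a040000019020000000010000000808000000e040000008020000004010000000000000000000000000000)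
noncomputable def cxy_L5 : Calc.Lv :=
  ⟨(nat_lit 15), (nat_lit 18), (nat_lit 5), (nat_lit 16), (nat_lit 0), get (nat_lit 13) cxy_U5,
    fun l x => get (nat_lit 34) cxy_R5 (Nat.add (Nat.mul x (nat_lit 3)) (Nat.sub l (nat_lit 15))), get (nat_lit 37) cxy_D5⟩
noncomputable def cxy_L6 : Calc.Lv :=
  ⟨(nat_lit 2), (nat_lit 3), (nat_lit 6), (nat_lit 3), (nat_lit 0), get (nat_lit 10) (nat_lit 270009344),
    fun l x => get (nat_lit 2) (nat_lit 9) (Nat.add (Nat.mul x (nat_lit 1)) (Nat.sub l (nat_lit 2))), get (nat_lit 2) (nat_lit 8)⟩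
noncomputable def cxy_lvs : List Calc.Lv := [cxy_L0, cxy_L1, cxy_L2, cxy_L3, cxy_L4, cxy_L5, cxy_L6]

theorem cxy_ok : chainOK (apT (nat_lit 24) (nat_lit 5) cxy_code) (imgT (nat_lit 5)) cxy_code (idc (nat_lit 24) (nat_lit 5)) (nat_lit 24) cxy_lvs = true := by
  decide +kernel

theorem cxy_eng {G X : Type*} [Group G] [MulAction G X] {pt : ℕ → X} (hf : Faithful G 24 pt) :
    Calc.Eng (G := G) (Rep 24 5 pt) (idc (nat_lit 24) (nat_lit 5)) cxy_code (apT (nat_lit 24) (nat_lit 5) cxy_code) (topC cxy_lvs) :=
  eng_perm (by decide) (by decide) hf _ _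

/-- order 244823040, base [0, 1, 2, 3, 4, 5, 6], orbit lengths [24, 23, 22, 21, 20, 16, 3] -/
theorem cxy_chain {G X : Type*} [Group G] [MulAction G X] {pt : ℕ → X} (hi : Inj 24 pt) (hf : Faithful G 24 pt)
    {gs : List G} (h : List.Forall₂ (Rep 24 5 pt) gs [18563015515822114106942345669149783, 361742016029687332798908746832780368]) :
    Chain (Rep 24 5 pt) cxy_code pt cxy_lvs (Subgroup.closure {s | s ∈ gs}) :=
  (cxy_eng hf).chain_list (img_rep hi) le_rfl h (by decide +kernel) (.of_chainOK cxy_ok)

theorem cxy_ord : ordL cxy_lvs = 244823040 := by decide +kernel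

/-- The generators of the Mathieu group. -/
noncomputable def gM (c : ℕ) : M24 := lets [mk 18563015515822114106942345669149783, mk 361742016029687332798908746832780368] c

theorem RX : R (gM 0) 18563015515822114106942345669149783 := mk_rep (by decide +kernel)
theorem RY : R (gM 1) 361742016029687332798908746832780368 := mk_rep (by decide +kernel)

theorem top_gM : Top 2 gM := fun S h => by
  have := (cxy_chain inj_pt faithful_M24 (.cons RX (.cons RY .nil))).card.trans cxy_ord
  rw [eq_top_iff, ← eq_top_of_card_eq _ (this.trans card_M24.symm), closure_le]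
  exact List.forall_mem_cons.2 ⟨h 0 (by decide), List.forall_mem_singleton.2 (h 1 (by decide))⟩

/-- The table of a product of letters. -/
noncomputable def prT (l : List ℕ) : ℕ :=
  List.rec id24 (fun c _ ih => forceN ih (mulT ([id24, 18563015515822114106942345669149783, 361742016029687332798908746832780368, 154050573568022384407126345889613029].getD c id24))) l

theorem R_prT (l : List ℕ) : R (l.map (tcl gM)).prod (prT l) := by
  induction l with
  | nil => exact R.one
  | cons c l ih =>
    rw [show prT (c :: l) = mulT _ (prT l) from forceN_eq (prT l) _]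
    refine R.mulT ?_ ih
    rcases c with _ | _ | _ | _ | c
    exacts [R.one, RX, RY, RY.inv (by norm_num) (by decide +kernel) (by decide +kernel) (by decide +kernel), R.one]

theorem rels_gM : ∀ t ∈ rM, t.ev gM = 1 := fun t ht => by
  have h0 := lab_tcl (δ := gM) ((RX.mulT RX).eq_one_iff.2 (by decide +kernel))
  rw [← ev_tcl (List.all_eq_true.1 lt_rM t ht), ← W.prod_toList h0.2]
  exact (R_prT _).eq_one_iff.2 (beq_iff.1 (List.all_eq_true.1 (by decide +kernel :
    (rM.all fun t => Nat.beq (prT ((renW Nat.succ t).toList (get 5 tcI))) id24) = true) t ht))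

theorem normal_top (hr : ∀ t ∈ rM, t.ev δ = 1) (ht : Top 2 δ) (N : Subgroup G) [N.Normal] (h : δ 0 ∈ N) : N = ⊤ := by
  have h1 : δ 1 ^ 3 = 1 := hr (.pow (.l 1) 3) (W.mem_of_isIn (by decide +kernel))
  have h2 : (δ 0 * δ 1) ^ 23 = 1 := hr (.pow (.mul (.l 0) (.l 1)) 23) (W.mem_of_isIn (by decide +kernel))
  have h3 := congrArg (QuotientGroup.mk' N) h2
  rw [map_pow, map_mul, show QuotientGroup.mk' N (δ 0) = 1 from (QuotientGroup.eq_one_iff _).2 h, one_mul, map_one] at h3
  have h4 := congrArg (QuotientGroup.mk' N) h1
  rw [map_pow, map_one] at h4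
  refine ht N fun c hc => ?_
  interval_cases c
  exacts [h, (QuotientGroup.eq_one_iff _).1 ((pow_eq_one_iff_of_coprime (by norm_num : Nat.Coprime 23 3)).1 ⟨h3, h4⟩)]

theorem perfect (hr : ∀ t ∈ rM, t.ev δ = 1) (ht : Top 2 δ) : commutator G = ⊤ := by
  refine normal_top hr ht _ ?_
  have h1 : δ 1 ^ 3 = 1 := hr (.pow (.l 1) 3) (W.mem_of_isIn (by decide +kernel))
  have h2 : (δ 0 * δ 1) ^ 23 = 1 := hr (.pow (.mul (.l 0) (.l 1)) 23) (W.mem_of_isIn (by decide +kernel))
  have h3 : (δ 0 * δ 1) ^ 6 ∈ commutator G := by
    rw [← Abelianization.ker_of, MonoidHom.mem_ker, map_pow, map_mul, mul_pow, ← map_pow, ← map_pow,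
      show 6 = 2 * 3 from rfl, pow_mul, sq (δ 0), xx hr, one_pow, pow_mul', h1, one_pow, map_one, one_mul]
  have h4 : δ 0 * δ 1 ∈ commutator G := by
    have := pow_mem h3 4
    rwa [← pow_mul, show 6 * 4 = 23 + 1 from rfl, pow_succ, h2, one_mul] at this
  have h5 : δ 0 ^ 3 ∈ commutator G := by
    rw [← Abelianization.ker_of, MonoidHom.mem_ker] at h4 ⊢
    rw [← mul_one (δ 0 ^ 3), ← h1, map_mul, map_pow, map_pow, ← mul_pow, ← map_mul, h4, one_pow]
  rwa [pow_succ, sq, xx hr, one_mul] at h5

/-- The seven relators define the Mathieu group. -/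
theorem bndM : Bnd.{u} 2 rM 244823040 := fun Q _ δ hr ht => by
  obtain ⟨P, _, γ, f, f', h1, h2, h3, h4⟩ := exists_prod lt_rM rels_gM hr
  have hs := top_gM.surjective h3
  obtain ⟨a, b⟩ := index_cen h1 h2
  have c1 : Nat.card (centralizer {gM 0}) = 7680 := by
    have := cls24.cent (18563015515822114106942345669149783, 7680) (by simp [c24])
    rwa [top_inf_eq] at this
  have c2 : (centralizer {gM 0}).index = 31878 := by
    have := (centralizer {gM 0}).index_mul_card
    rw [c1, card_M24] at this
    omega
  have c3 : centralizer {γ 0} ≤ (centralizer {gM 0}).comap f := fun g hg => mem_centralizer_singleton_iff.2 (by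
    rw [← h3 0 (by decide), ← map_mul, ← map_mul, mem_centralizer_singleton_iff.1 hg])
  have c4 : (centralizer {gM 0}).comap f ≤ centralizer {γ 0} := by
    have := relIndex_mul_index c3
    rw [index_comap_of_surjective _ hs, c2] at this
    exact relIndex_eq_one.1 (by omega)
  have c5 : f.ker ≤ center P := fun g hg => by
    have : centralizer (f.ker : Set P) = ⊤ := normal_top h1 h2 _ (mem_centralizer_iff.2 fun k hk =>
      mem_centralizer_singleton_iff.1 (c4 (by rw [mem_comap, hk]; exact one_mem _)))
    exact mem_center_iff.2 fun k => ((this ▸ mem_top k : k ∈ centralizer (f.ker : Set P)) g hg).symm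
  have c6 := Schur.finite_commutator_of_central c5
  rw [perfect h1 h2] at c6
  have : Finite P := Finite.of_equiv _ topEquiv.toEquiv
  obtain ⟨π, hπ⟩ := Schur.exists_surjective_ker Cfsg.Agent.S2038.result ⟨hs, c5, perfect h1 h2 ▸ le_top⟩
  have c7 : Function.Injective f := (MonoidHom.ker_eq_bot_iff f).1 (eq_bot_iff.2 fun g hg => by
    obtain ⟨a, e⟩ := hπ ⟨g, hg⟩
    rw [Subsingleton.elim a 1, map_one] at e
    exact (congrArg Subtype.val e).symm)
  exact ⟨Finite.of_surjective _ (ht.surjective h4), (Nat.card_le_card_of_surjective _ (ht.surjective h4)).trans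
    ((Nat.card_le_card_of_injective f c7).trans card_M24.le)⟩

theorem exists_hom24 {G : Type u} [Group G] {δ : ℕ → G} (hr : ∀ t ∈ rM, t.ev δ = 1) :
    ∃ φ : M24 →* G, ∀ c < 2, φ (gM c) = δ c := bndM.exists_hom lt_rM rels_gM top_gM card_M24.ge hr

end Cfsg.Lib.J4
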