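import Cfsg.Agent.Lib.Calc.CosetFin

/-!
# Consequences of the seven relators in `x, y`
-/

set_option autoImplicit false
set_option maxRecDepth 1000000
set_option maxHeartbeats 0
set_option Elab.async false

namespace Cfsg.Lib.J4

open Cfsg.Lib.Calc

/-- The relators of the Mathieu group for coset enumerations. -/
def tcR : List W := [.pow (.l 1) 2, .pow (.l 2) 3, .pow (.mul (.l 1) (.l 2)) 23, .pow (.mul (.mul (.mul (.inv (.l 1)) (.inv (.l 2))) (.l 1)) (.l 2)) 12, .pow (.mul (.mul (.mul (.inv (.l 1)) (.inv (.mul (.mul (.l 2) (.l 1)) (.l 2)))) (.l 1)) (.mul (.mul (.l 2) (.l 1)) (.l 2))) 5, .pow (.mul (.mul (.l 1) (.l 2)) (.pow (.mul (.mul (.mul (.l 1) (.l 2)) (.l 1)) (.inv (.l 2))) 3)) 4, .mul (.pow (.mul (.mul (.mul (.mul (.mul (.l 1) (.l 2)) (.l 1)) (.l 2)) (.l 1)) (.inv (.l 2))) 3) (.pow (.mul (.mul (.mul (.mul (.mul (.l 1) (.l 2)) (.l 1)) (.inv (.l 2))) (.l 1))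 (.inv (.l 2))) 3)]

/-- Inverses of letters. -/
def tcI : ℕ := nat_lit 68640

def ta_F : Tr := .node (.node (.node (.leaf (nat_lit 0x18ff106c08fe08fd10fd18fc08fc08fb18fb10fa08fa08f910f918f808f808f718f710f608f608f518f510f408f408f310f318f208f208f110f118f008f008ef18ef10ee08ee08ed10ed18ec08ec08eb18eb104910ea18e908e908e818e810e708e708e610e6185c10e518e408e408e310e318e208e208e118e110e008e008df10df18de08de08dd18dd10dc08dc08db18db10da08da08d910d918d808d808d718d710d608d608d518d5107208d408d310d318d208d208d118d110d008d008cf10cf182e10ce18cd08cd08cc10cc18cb08cb08ca18ca10c908c908c810c818c708c708c618c610c508c508c418c410c308c308c210c218c108c108c018c010bf08bf08be10be180b08bd08bc18bc10bb08bb08ba10ba18b908b908b810b818b708b708b610b618b508b508b418b410b308b308b218b210b108b108b010b018af08af08ae10ae18ad08ad08ac18ac10ab08ab08aa18aa10a908a908a810a8184718a710a608a608a510a518a408a408a318a310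a208a208a118a110a008a0089f109f189e089e089d189d109c089c089b189b109a089a08991099189808980897189710960896089518951009189410930893089210921863089108901890108f088f088e108e188d088d088c188c108b088b088a188a1089088908881088188708870886108618850885088418841083088308821082181c108118800880087f187f107e087e087d187d107c087c087b107b187a087a08791079187808780877187710760876087518751074087408731073187208720871107118700870086f186f106e086e086d186d1007086c086b106b186a086a08691069185510681867086708661066186508650864186410630863086210621861086108601860105f085f085e185e105d085d085c105c185b085b085a105a18340859085810581857085708561856105508550854185410530853085210521851085108501850104f084f084e184e104d084d084c104c184b084b084a104a184908490848184810470847084610461845084508441844101a1043184208420841184110400840083f183f103e083e083d103d183c083c083b103b183a083a08391839103808380837103718360836083518351034083408331833103208320831103118050830082f182f102e082e082d182d102c082c082b102b182a082a08291829102808280827102718260826082510251824082408231823102208220821102118200820081f181f101e081e081d181d101c081c081b101b181a081a08191819100010181817081708161816101508150814181410130813081210121811081108101010180f080f080e180e100d080d080c180c100b080b080a100a180908090808100818070807080618061005080508041804100308030802180210010801080000000000))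
  (.leaf (nat_lit 0x934091b0135011b0134038d013303a4013203b8013103ce013003dd039003ea03a703f703bb040503d1041203e0041b03ed042303fa042a142b1c2d142c1c2e0c240c281c261425141c1c221c1914180c110c160a6d0a82039a0282026d0283026c039c026b03b0026a03c5026903d7026803e5026703f2026603ff0265040d140c1c0e14031c091c02140113d91bd60a1f0a2803970228021f0229021e0398021d03ad021c03c2099a0987019b0187019a02ca019902cb0198039d019703b1019603c60bc10bcb09de09ed039301ed01de01ee01dd039401dc03aa01db03bf0bc00bca1bc813c71bbd13bc1ba013111b9e12e81a80139b1a6113991b96120f1b951394195713921b91115019301390192a138f1b8e11201919138c1913138b0b7d0b8a1852137e1862137118b0137010af1b700b4b0b621b4c10190967095e015e01681967133c08d308ce00ce00d4082f08180018003000170211001602120015021300140214001302150012021611661b3c1b3710020b2b0b3619ae131f0a3b0a36023c02361b1e12391a38131e1b1d13150b070af0030802f01aee131c12ed1b1c1b1310040ac80ac1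02c902c11b1212c608bc08a700bd00a700bc028400bb028500ba02861ac513121b0f10331a49130e12481b0e1add1196199512dd18ba12c2187b12ae107a1aae18b8129c10b71a9c1a8710aa19da125a11d91a5a1a55114c11aa1a5419ab12541a4f108c1a36124e12351a4e1a3d110b1a3711b01a2a1209199412201a17120d1981121011801a1009ff0a041a00109419ef107519df10b209ba09cd18ee11b409a409b319a5105019a210f710f019a118f111a1183b119c188811881812117b1963117a1162197a1969101f195f102d195810a309540957195510e81946113a18e31145193611091907106f086b08680068006c10fc1866006700ff0066010018fc1065006500fd006400fe085808430043005919061041184011061886110118fd110010fc1900184a10eb08e508ea18e6105b18cf102f18be100c18a81048180a1095088108941892106418911060185f10911808106d18691056185a1035181b1044183110060c2e0c290c2d0c270c2c0c260c2b0c251c2a14231c2914211c2814201c27141f14261c1e1c25141e1c24141d0c230c1b0c220c1a0c210c190c200c180c1f0c170c1e0c150c1d0c140c1c0c13141b1c121c1a141014191c0f1c18140f14171c0b1c16140a14151c081c1414071c1314060c120c0514111c040c100c020c0f0c010c0e0c000c0d0bff0c0c0bfe0c0b0bfd0c0a0bfc0c090bfb0c080bfa0c070bf90c060bf81c0513f70c040bf60c030bf514021bf41c0113f414001bf3)))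
  (.leaf (nat_lit 0x12ff1afe0afe0afd1afd12fc0afc0afb12fb1afa0afa0af91af912f80af80af712f71af60af60af51af512f40af40af312f31af20af20af11af1116a12f01aef0aef0aee12ee1aed0aed0aec12ec1aeb0aeb0aea1aea12e90ae90ae81ae812e70ae70ae612e61ae50ae50ae41ae412e30ae30ae21ae212e10ae10ae012e01adf0adf0ade12de180d0add0adc12dc1adb0adb0ada1ada12d90ad90ad81ad812d70ad70ad612d61ad50ad50ad412d41ad30ad30ad21ad212d10ad10ad012d01acf0acf0ace12ce1acd0acd0acc1acc110212cb1aca0aca09870ac90ac812c81ac70ac70ac61ac612c50ac50ac41ac412c30ac30ac21ac210b912c11ac00ac00abf1abf12be0abe0abd1abd12bc0abc0abb12bb1aba0aba0ab91ab912b80ab80ab71ab712b60ab60ab512b51ab40ab40ab312b31ab20ab20ab11ab112b00ab00aaf12af1a9e0aae0aad12ad1aac0aac0aab1aab12aa0aaa0aa912a91aa80aa80aa712a71aa60aa60aa51aa512a40aa40aa312a31aa20aa20aa11aa112a00aa00a9f1a9f129e0a9e0a9d129d18960a9c0a9b129b1a9a0a9a0a991a9912980a980a9712971a960a960a9512951a9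40a940a931a9312920a920a9112911a900a900a8f1a8f128e0a8e0a8d1a8d128c0a8c0a8b128b1a8a0a8a0a891a8912880a880a87128718a90a860a8512851a840a8408a70a830a821a8212810a810a8012801a7f0a7f0a7e127e1a7d0a7d0a7c1a7c127b0a7b0a7a127a1a790a790a781a7812770a770a7612761a750a750a741a7412730a730a721a7212710a710a7012701a6f0a6f0a6e1a6e104b1a6d126c0a6c0a6b126b1a6a0a6a0a691a6912680a680a671a6712660a660a6512651a640a640a631a6312620a620a6112611a600a600a5f125f1a5e0a5e0a5d125d1a5c0a5c0a5b1a5b10980a5a0a591a5912580a580a5712571a560a560a551255194b0a540a531a5312520a520a5112511a500a500a4f124f188b0a4e0a4d1a4d124c0a4c0a4b124b1a4a0a4a0a4912491a480a480a471a4712460a460a4512451a440a440a4312431a420a420a411a4112400a400a3f123f1a3e0a3e0a3d123d190a0a3c0a3b1a3b123a0a3a0a391a3912380a380a37123719b112361a350a350a341a3412330a330a3212321a310a310a3012301a2f0a2f0a2e1a2e122d0a2d0a2c122c1a2b0a2b0a2a122a1a080a290a281a2812270a270a2612261a250a250a2412241a230a230a221a2212210a210a201a2011931a1f121e0a1e0a1d1a1d121c0a1c0a1b121b1a1a0a1a0a1912191a180a180a1712171a0c0a160a1512151a140a140a1312131a120a120a111a1110300a100a0f1a0f120e0a0e0a0d1a0d120c0a0c0a0b120b1a0a0a0a0a091a0912080a080a071a0712060a060a051205190c12041a030a030a021a0212010a010a0012001893)))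
  (.node (.node (.leaf (nat_lit 0x11ff19fe09fe09fd11fd19fc09fc09fb19fb11fa09fa09f911f919f809f809f719f711f609f609f519f511f409f409f311f319f209f209f119f111f009f009ef11ef187409ee09ed11ed19ec09ec09eb19eb11ea09ea09e911e919e809e809e719e711e609e609e519e511e409e409e311e319e209e209e119e111e009e009df11df18b111de19dd09dd09dc11dc19db09db09da11da19d909d909d819d811d709d709d611d619d509d509d411d419d309d309d219d211d109d109d011d019cf09cf09ce11ce18d611cd19cc09cc09cb11cb19ca09ca09c919c911c809c809c711c719c609c609c511c519c409c409c319c311c209c209c111c119c009c009bf11bf19be09be09bd19bd11bc09bc09bb11bb18ab11ba19b909b909b811b819b709b709b619b611b509b509b419b410ef11b319b209b209b111b119b009b009af19af11ae09ae09ad11ad19ac09ac09ab11ab19aa09aa09a919a911a809a809a711a719a609a609a511a5184f11a419a309a309a211a218f609a109a019a0119f099f099e119e199d099d099c199c103a099b099a199a11990999099811981997099709961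996119509950994119419930993099219921191099109901190198f098f098e118e198d098d098c198c118b098b098a118a19890989098819881087198711860986098519851184098409831183198209820981118119800980097f117f197e097e097d197d117c097c097b197b1011097a09791979117809780977117719760976097511751974097409731973117209720971117119700970096f116f196e096e096d196d116c096c096b116b196a096a09691169181e09680967116719660966096511651964096409631163196209620961196111600960095f115f182c115e195d095d095c195c115b095b095a115a195909590958115818a21157195609560955115518e7115419530953095219521151095109501950114f094f094e114e194d094d094c194c114b094b094a194a11490949094811481947094709461146193909450944194411430943094211421941094109401940113f093f093e193e113d093d093c113c193b093b093a193a11390939093819381137093709361136190809350934113419330933093211321931093109301130192f092f092e112e192d092d092c192c112b092b092a112a19290929092811281927092709261126192509250924192411230923092219221121092109201920111f091f091e111e191d091d091c191c1045111b191a091a09191119191809180917111719160916091519151114091409131113191209120911111119100910090f110f190e090e090d190d110c090c090b190b110a090a090919091108090809071107186e090609051905110409040903110319020902090119011085090008ff))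
  (.leaf (nat_lit 0)))
  (.leaf (nat_lit 0x13ff1bf213fe1bf11bfd13f013fc1bef13fb1bee1bfa13ed13f91bec13f81beb0bf70bea1bf613e913f51be80bf40be70bf30be60bf20be50bf10be40bf00be30bef0be20bee0be10bed0be00bec0bdf0beb0bde13ea1bdd0be90bdc0be80bdb13e71bda1be613d813e51bd713e41bd513e31bd41be213d31be113d213e01bd113df1bd013de1bcf0bdd0bce13dc1bcd13db1bcc0bda0bc90bd90bc80bd80bc70bd70bc50bd60bc40bd50bc30bd40bbe0bd30bbd0bd20bbc0bd10bbb0bd00bba0bcf0bb91bce13b80bcd0bb70bcc0bb613cb1bb51bca13b41bc913b313c81bb21bc713b20bc60bb11bc513b01bc413af1bc313ae13c21bad13c11bac1bc013ab1bbf13aa1bbe13a913bd1ba81bbc13a81bbb13a71bba13a61bb913a50bb80ba41bb713a31bb613a20bb50ba10bb40ba00bb30b9f0bb20b9e1bb1139d0bb00b9c0baf0b9b0bae0b990bad0b980bac0b960bab0b950baa0b940ba90b920ba80b910ba70b900ba60b8f0ba50b8e1ba4138d0ba30b8c0ba20b8b1ba1131a13a01b10139f1af4139e1ae70b9d0acb139c1a831b9b127f0b9a0a6d1b99126013981a29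0b970a1f13961a0e139519ee1b9411ee0b9309de1b9211561391194f1b90112f1b8f1129138e191f0b8d091b1b8c11181b8b11121b8a13890b890b881b8813870b870b8613861b850b850b8413841b830b830b821b8213810b810b801b80137f0b7f0b7e1b7e10511b7d137c0b7c0b7b1b7b137a0b7a0b7913791b780b780b7713771b760b760b751b7513740b740b731b7313720b720b711b7110610b700b6f136f1b6e0b6e0b6d1b6d136c0b6c0b6b136b1b6a0b6a0b6913691b680b680b671b6713660b660b6513651b640b640b631b6313531b6213610b610b6013601b5f0b5f0b5e1b5e135d0b5d0b5c135c1b5b0b5b0b5a1b5a13590b590b5813581b570b570b561b5613550b550b5413541b530b530b521b5213510b510b5013501b4f0b4f0b4e1b4e134d0b4d0b4c134c18001b4b134a0b4a0b4913491b480b480b471b4713460b460b4513451b440b440b431b4313420b420b4113411b400b400b3f1b3f133e0b3e0b3d133d195e0b3c0b3b133b1b3a0b3a0b391b3913380b380b37133718011b3613350b350b341b3413330b330b3213321b310b310b3013301b2f0b2f0b2e1b2e132d0b2d0b2c1b2c11891b2b132a0b2a0b291b2913280b280b2713271b260b260b2513251b240b240b231b2313220b220b211b2113200b200b1f1b1f11af0b1e0b1d131d1b140b1c0b1b131b1b1a0b1a0b191b1913180b180b1713171b160b160b151b1513140b140b13131318030b120b111b1113100b100b0f130f18320b0e0b0d1b0d130c0b0c0b0b130b1b0a0b0a0b0913091ae30b080b0713071b060b060b051b0513040b040b0313031b020b020b011b0113000b000aff)))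
def ta_T : Tr := .node (.leaf (nat_lit 0x7feff9febfc7f6fe9fcbf87eefd9fabf47e6fc9f8bf07defb9f6bec7d6fa9f4be87cef99f2be47c6f89f0be07bef79eebdc7b6f69ecbd87aef59eabd47a6f49e8bd079ef39e6bcc796f29e4bc878ef19e2bc4786f09e0bc077eef9debbc776ee9dcbb876eed9dabb4766ec9d8bb075eeb9d6bac756ea9d4ba874ee99d2ba4746e89d0ba073ee79ceb9c736e69ccb9872ee59cab94726e49c8b9071ee39c6b8c716e29c4b8870ee19c2b84706e09c0b806fedf9beb7c6f6de9bcb786eedd9bab746e6dc9b8b706dedb9b6b6c6d6da9b4b686ced99b2b646c6d89b0b606bed79aeb5c6b6d69acb586aed59aab546a6d49a8b5069ed39a6b4c696d29a4b4868ed19a2b44686d09a0b4067ecf99eb3c676ce99cb3866ecd99ab34666cc998b3065ecb996b2c656ca994b2864ec9992b24646c8990b2063ec798eb1c636c698cb1862ec598ab14626c4988b1061ec3986b0c616c2984b0860ec1982b04606c0980b005febf97eafc5f6be97caf85eebd97aaf45e6bc978af05debb976aec5d6ba974ae85ceb9972ae45c6b8970ae05beb796eadc5b6b696cad85aeb596aad45a6b4968a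d059eb3966acc596b2964ac858eb1962ac4586b0960ac057eaf95eabc576ae95cab856ead95aab4566ac958ab055eab956aac556aa954aa854ea9952aa4546a8950aa053ea794ea9c536a694ca9852ea594aa94526a4948a9051ea3946a8c516a2944a8850ea1942a84506a0940a804fe9f93ea7c4f69e93ca784ee9d93aa744e69c938a704de9b936a6c4d69a934a684ce99932a644c698930a604be9792ea5c4b69692ca584ae9592aa544a694928a5049e93926a4c49692924a4848e91922a4448690920a4047e8f91ea3c4768e91ca3846e8d91aa344668c918a3045e8b916a2c4568a914a2844e89912a2444688910a2043e8790ea1c4368690ca1842e8590aa1442684908a1041e83906a0c41682904a0840e81902a0440680900a003fe7f8fe9fc3f67e8fc9f83ee7d8fa9f43e67c8f89f03de7b8f69ec3d67a8f49e83ce798f29e43c6788f09e03be778ee9dc3b6768ec9d83ae758ea9d43a6748e89d039e738e69cc396728e49c838e718e29c4386708e09c037e6f8de9bc3766e8dc9b836e6d8da9b43666c8d89b035e6b8d69ac3566a8d49a834e698d29a4346688d09a033e678ce99c336668cc99832e658ca99432664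8c899031e638c698c316628c498830e618c2984306608c09802fe5f8be97c2f65e8bc9782ee5d8ba9742e65c8b89702de5b8b696c2d65a8b49682ce598b29642c6588b09602be578ae95c2b6568ac9582ae558aa9542a6548a895029e538a694c296528a494828e518a2944286508a094027e4f89e93c2764e89c93826e4d89a9342664c89893025e4b89692c2564a89492824e498929242464889092023e4788e91c2364688c91822e4588a9142264488891021e4388690c2164288490820e41882904206408809001fe3f87e8fc1f63e87c8f81ee3d87a8f41e63c8788f01de3b8768ec1d63a8748e81ce398728e41c6388708e01be3786e8dc1b63686c8d81ae3586a8d41a6348688d019e338668cc196328648c818e318628c4186308608c017e2f85e8bc1762e85c8b816e2d85a8b41662c8588b015e2b8568ac1562a8548a814e298528a4146288508a013e2784e89c1362684c89812e2584a8941262484889011e2384688c1162284488810e21842884106208408800fe1f83e87c0f61e83c8780ee1d83a8740e61c8388700de1b83686c0d61a8348680ce198328640c6188308600be1782e85c0b61682c8580ae1582a8540a61482885009e1382684c0961282484808e118228440861082084007e0f81e83c0760e81c83806e0d81a8340660c81883005e0b81682c0560a81482804e098128240460881082003e0780e81c0360680c81802e0580a8140260480881001e0380680c0160280480800e0180280400600800800))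
  (.leaf (nat_lit 0x10ba16c2c8570aa14c2884f09a12c2484708a10c2083f07a0ec1c83706a0cc1882f05a0ac1482704a08c1081f03a06c0c81702a04c0880f01a02c0480700a00c00))
def ta_P : Tr := .node (.node (.node (.leaf (nat_lit 0xde20f000008980d8000071ff8950d18020d89287f0000d2018930cf8020788188f0cd8020d88e1fa0000a1fd88d0cb802071fc8802001fe0d80d60d48640af0b188a08608488720c20a20820620488310f11111311511711911b11d11f12112386a0c30c50c70c9816058880b2000070b20b00ae0ac0aa0a80a60a40a20a009e09c09a09809609409209008e08c08a86103910510710910b20320520720920b20d88608508781a050828840000020c20a20820620488310f11111311511711911b11d11f1211238690be0bc0ba0b80b686206d06f07107307507707907b07d07f0810060520210d0000087f1fb000002001fe0d80d60d40d20aa0a80a60a40a20a009e09c09a09809687c1d91db1dd1df1e11e31e51e71e91eb1ed1ef1f11f31f51f71f9036051d6095000001d41d21d01ce8780b60b406806606485e00f0db0dd0df0e10e30e51ab1ad1af1b11b31b51b71b91bb1bd1bf1c11c31c51c71c91cb018050b91cd0000005e19f0000001817d000000901510000012a015000001281261240c60c40c20c00be0bc0ba0b80b60b406806606485e00f0db0dd0df0e10e30e50e70e90eb0ed0ef0f10f30f50f70f90fb0fd0ff10110300c030c8125000000c08680000012212011e11c11a11811611411211010e10c10a10810610403803603403200300500700900b0630650670690b50b70b90bb0bd0bf012050da011000000ac0d30000006a0b5000000880370000000c06300000))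
  (.leaf (nat_lit 0x45399b72f8020773199943f8020a75b99743d8020778599543b8020a78475a73045245044e44c44a4484464444428d532b32d32f33133333599230e30c30a3083063048d042041e41c8d3431433435437439800059913360000759598f3378020759798d3358020a73b98b333802077639893318020d78d98732f8020778c76273a59659430e30c30a3083063048d042096975978398479676a74263463263062e62c62a62862600600400203303503703910510710910b10d10f31131331531731931b31d31f32132332532732932b32d8120479676a74263463263062e62c91f63d92247547792646c46a46846646446246045e45c45a4584568d641541741941b41d72d75978300c05981726000073dd97f7278020772997d3bd8020d75597b3bb8020777f9793b98020d77e7549677577819767947687406209000690b50b78791cf2ab2ad2af8a72a82a62a42a22a029e29c29a8e74ad4af4b14b34b58eb3b78340579476897062590358a58858658417217016e16c16a1681668c73c13c33c53c73c93cb3cd3cf3d13d33d53d73d93db3dd72b7577810140578e7910000077877b00000622741000005d073d00000736501000007324c30000041e72d0000072872b000007242af000002a0723000007202610000071e25500000)))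
  (.node (.leaf (nat_lit 0x91b610000075e05de91863863663463263062e62c62a62862600600400203303503703903b03d2d32d55e35e55e75e95eb5ed5ef5f15f35f55f75f95fb5fd5ff60160360560760960b60d60f611804029175dd0000063863663463263062e62c62a62891400b00d00f01101301501701901b5bd5bf5c15c35c55c75c95cb5cd5cf5d15d35d55d75d95db02e05008627000009115920000758258057e57c57a57857657457257056e56c56a56856656456256055e53c53a12c12a01201000e85f06561f62162362590e58f5915938180558c9020000090b17a0000750990917b8020750b9071798020a50d9051778020750c50a50814e14c14a14814614414214013e13c13a13813613413213012e12c12a01201000e85f06561f62162362590358a5885868f782e0562462262061e06406200a00800600400203303508908b08d08f15115315515715915b15d15f16116316516716916b16d16f17117358558758958b00e0306661f000008fd4930000061c61a6186166146125c65c45c25c05be5bc01a0180160140128660dd20f21121321547b47d47f48148348548748948b48d48f491042053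2c8f8000005ba5b85b65b45b25b05ae5ac5aa5a85a65a45a25a059e59c59a59820488310f31131331531731931b31d31f32132332532732932b00e05584175000008f30f70000055c55a55855655455255054e54c54a54854654454254053e53c53a12c12a0128660dd0df0e10e30e50e70e90eb0ed0ef0f10f30f503a058ef1710000053853653453253052e52c52a52852652452252051e51c51a5185165145125108ec15715915b15d15f16116316516716916b16d16f03a0515450f000008e93b5000004b44b24b04ae4ac4aa29629429229028e28c27227026e26c21089c0e10e30e51ab1ad39d39f3a13a33a53a73a93ab3ad3af3b13b3042052984ab000004a84a64a44a24a08e011b11d11f12112386a0c30c50c70c90cb0cd0cf0d189b0d60d40d20aa0a80a60a40a28bf34d34f35135335502a054a84a64a44a24a08e011b11d11f12112386a0c30c50c70c90cb8911f81f61f41f21f08bd3473498c036636436236035e35c35a35801e0511849f000008dd46d00000))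
  (.leaf (nat_lit 0x1ff001ff001ff001ff001ff001ff001ff001ff001ff001ff001ff001ff001ff001ff001ff001ff001ff001ff001ff001ff001ff001ff001ff001ff001ff001ff001ff9e526a0000771b9e326b802077499e12698020d7719df2678020779d9dd2658020d))))
  (.node (.node (.leaf (nat_lit 0x49c49a49849649449249048e48c48a48848648448248047e47c8da21940b40d40f41145545745945b45d45f46146346546746946b0420521647b0000036346f00000412455000004403290000041a42f000008cf3030000042041e41c41a41841641441241040e40c40a21821621421221020e0dc86701301501701901b01d01f0210232f72f92fb2fd2ff301022054084064044028ca86f1021000fe0fc0fa0f80f60f40f20f00ee0ec8c93e13e33e53e73e93eb3ed3ef3f13f33f53f73f93fb3fd3ff01805128401000000ea3df000001643bf0000039a39839639439239038e38c38a38838638438238037e37c37a3783761561541528720931d71d91db1dd8c236b36d36f371373375000053681de0000036636436236035e35c35a35835635435235034e34c8be0a30a50a70a90ab0d30d5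0d789a0d00ce8971f81f61f41f21f08bd34734903c050a034b000001ee3450000034234033e33c33a33807407207006e06c06a06806606406200a00800600400203303508908b08d08f0910931d71d91db1dd1df1e102a0534234033e33c33a8b707907b07d07f08108308508788b0b00ae8650d50d789a0d00ce8971f81f61f41f21f01ee1ec1ea1e81e61e40060533807700000310111000002f6025000008af2c7000002f42f22f02ee2ec2ea2e82e62e42e22e02de2dc2da2d82d62d48ac04104304504704904b04d04f0510530550570592bf2c12c32c50420503e2d30000005a2bf000001462b1000002ae2ac8a41d31d587b1ca1c88a028a28828628428228027e27c27a2782768a328f29129329529729929b29d29f2a12a32a52a72a9024051d02ab0000027428d0000028a28828628428228027e27c27a27827627427227026e26c21020e0dc0da00e85f0650670690b50b78791cf1d11d31d587b1ca1c801e0521226d00000))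
  (.leaf (nat_lit 0x7bb9db263802077d59d99618020a7ef9d774e8020780b9d57768020d8259d37a2802078379d17c08020a8479cf7da802078559cd7f48020d85484683682480a7ee7d47ba79c77074871a23623495a74776f79b7b97d37ed8098239be82c8147f87de7c47a677a7509622a32a52a72a98a696475377d7a97c77e17fb81782f83f84f85b9cb85684a83c82a8108180485a84e83e82e8167fa7e07c67a877c7527242ac2aa1ce8780b60b406806606406200a00800600400203303503703903b03d2d32d55e35e55e75e973f7677937b57cf7e980381f83384385385d9c98589c485701a0485c8528429c08418519c784883a82880e7f27d87be7a077474c95f25725925b25d25f72174f7777a37c17db7f581182b83d84d8590160585084083081e9a38218358459c383882680c7f07d67bc79e77274a95c24324524724924b24d24f25125371f74d7757a17bf7d97f380f82983b8490000384a84d000008448348208047e87ce7b479276673e5e85e65e45e22d42d203c03a03886008b23923b23d23f71d74b77379f7bd7d77f180d827839042058308330000082c8147f87de7c47a69727a57c37dd7f7813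9a58067ea7d07b679876c74495922922b22d22f23171974776f79b7b97d37ed80982301c059bb734000075079b9735802077399b74db8020a7619b54d98020778b9b34d78020d7af9b14d5802077cb9af4d38020a7e59ad4d1802077ff9ab4cf8020a81b9a94cd8020781a7fe7e47ca7ae78a76073850650450296c75f7897ad9a17b29747b17cd7e780181d9a78187fc7e27c87aa78675c96b4c54c74c94cb8320581c8007e67cc7b078e76473c5ce5cc5ca5c85c65c45c25c05be5bc01a01801687012d12f1314b74b94bb4bd4bf4c173375d7877ab7c97e37fd819006038127f67dc7c27a477875072229e29c29a29829629429229028e28c27227026e89e21521721921b21d21f22122322571774576d7997b77d17eb80700603802805000007ac78875e7364fe4fc4fa4f84f64f44f24f04ee4ec4ea4e84e64e44e24e04de4dc09609409209008e08c08a08803403200300500762762962b62d62f6316336356376399175da5d85d65d45d296f7657917b300a0499d72e00007)))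
  (.leaf (nat_lit 0x24071d00000718233000007162270000071471271070e70c70a7087067047027006fe9550a70a90ab0d30d50d789a0d00ce0cc0ca0c80c69526e56e76e96eb6ed6ef6f16f36f56f76f96fb000036fc0a5000006e20c50000094f161000006e06de6dc6da6d86d66d46d26d06ce6cc6ca6c86c66a66a46a26a069e69c69a94a03508908b08d08f15115315515715915b15d15f03a056c46c26c06be6bc6ba6b86b66b46b26b06ae6ac6aa6a86a66a46a26a069e69c69a69800366f67167367567767994594867b67d67f68168368568768968b68d68f69169369569700002032699000009462d0000072d094467867667467267092c00700900b00d00f01101312b12d12f13113313513713913b13d13f1411431452b12b32b52b72b92bb2bd8120592f2cf000009401a8000071a81a61a41a21a087693e03002e02c02a02802602402202001e01c01a87517f18118318518718918b18d18f19119319519719919b19d81a0593c0600000742393b0318020d42593902f8020742793702d8020a42993502b8020742b9330298020a42d9310278020742c42a42842642442206005e05c8ab2c12c32c52c72c92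cb2cd92e67867667467267092c00700900b00d00f01101301501701901b01d01f02102302580a0367867667467267066e00203303503703903b03d2d32d52d72d92db2dd2df2e12e32e52e72e92eb2ed2ef2f12f32f58b12c92cb2cd03a0500466f0000066c66a66866666466266065e65c65a6583128b511311511749f4a14a34a54a74a98e335935b35d92864164364564764964b64d64f6516536556570000363e35e000009254780000746c46a46846646446246045e45c45a45845645441040e40c40a21821621421221020e0dc0da00e00c00a91562963b63d922475477479844054729200000063c63a62862600600400203303508908b08d08f0910931d71d91db1dd1df1e11e31e51e71e91eb1ed3453473498c036636446f4710020562a63b00000)))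
def ta_N_0 : Tr := .node (.node (.node (.node (.leaf (nat_lit 2114))
  (.leaf (nat_lit 0)))
  (.leaf (nat_lit 1025)))
  (.node (.leaf (nat_lit 0x1844118441184411046110461104611044118441184411844110461104611046110441))
  (.leaf (nat_lit 67))))
  (.node (.node (.leaf (nat_lit 0x104611046110461104611046110461104611046110461104611046110461))
  (.leaf (nat_lit 98)))
  (.node (.leaf (nat_lit 33))
  (.leaf (nat_lit 2051))))
def ta_N : Tr := .node ta_N_0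
  (.node (.node (.node (.leaf (nat_lit 0x411044110441104411044110441104411044110441104411044110441))
  (.leaf (nat_lit 98)))
  (.node (.leaf (nat_lit 0x184611046118441184611046110441184411046110441))
  (.leaf (nat_lit 67))))
  (.node (.node (.leaf (nat_lit 0x10441184611044118461104411846110441184611044118461))
  (.leaf (nat_lit 3074)))
  (.node (.leaf (nat_lit 33))
  (.leaf (nat_lit 0)))))
noncomputable def ta : TC :=
  ⟨[.l 0, .l 1, .l 2, .l 3],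
    (nat_lit 11), (nat_lit 12), (nat_lit 68640), (nat_lit 1), (nat_lit 1071), (nat_lit 0), (nat_lit 32), (nat_lit 7), (nat_lit 17),
    get (nat_lit 10) (nat_lit 0x400c0400c02010030080400c02090380a0300b803), Tr.get ta_N, get (nat_lit 20) (nat_lit 0x3ff003ff003ff003ff003ff003ff003ff003ff003ff003ff003ff000060000500004000030000200001),
    Tr.get3 ta_F (nat_lit 32) (nat_lit 4), Tr.get3 ta_T (nat_lit 11) (nat_lit 6), Tr.get ta_P⟩

theorem ta_head : ta.headOK tcR tcI = true := by decide +kernel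

theorem ta_b0 : allFrom (nat_lit 0) (nat_lit 7) ta.blockOK = true := by decide +kernel

theorem ta_blocks : ∀ t < ta.k, ta.blockOK t = true :=
  (of_allFrom_append of_lt_zero ta_b0)

theorem ta_mem0 {G : Type*} [Group G] {γ : ℕ → G} (hL : Lab γ tcI) (hr : ∀ t ∈ tcR, t.ev γ = 1) {K : Subgroup G}
    (hK : ∀ t ∈ ([] : List W), t.ev γ ∈ K) :
    W.ev γ (.mul (.mul (.mul (.mul (.mul (.mul (.mul (.mul (.mul (.mul (.mul (.mul (.mul (.mul (.mul (.mul (.mul (.mul (.mul (.pow (.mul (.l 1) (.l 2)) 3) (.pow (.mul (.l 1) (.inv (.l 2))) 2)) (.pow (.mul (.l 1) (.l 2)) 2)) (.pow (.mul (.l 1) (.inv (.l 2))) 2)) (.pow (.mul (.l 1) (.l 2)) 2)) (.pow (.mul (.l 1) (.inv (.l 2))) 3)) (.l 1)) (.l 2)) (.l 1)) (.inv (.l 2))) (.pow (.mul (.l 1) (.l 2)) 2)) (.l 1)) (.inv (.l 2))) (.l 1)) (.l 2)) (.pow (.mul (.l 1) (.inv (.l 2))) 2)) (.l 1)) (.l 2)) (.l 1)) (.inv (.l 2))) ∈ K :=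
  TC.mem (D := ta) hL (List.forall_mem_cons.2 ⟨hL.zero_mem K, hK⟩) hr ta_head ta_blocks
    (n := (nat_lit 48)) (w := (nat_lit 0x184411846110461104411844118461184411046118441104611844110441)) (st := (nat_lit 0x3303503703903b03d03f04104304504704904b04d04f05105305505705905b05d05f93e03002e02c02a02802602402202001e01c01a01801601401201000e00c00a008006004002)) (by decide +kernel) (by decide +kernel)

theorem ta_mem1 {G : Type*} [Group G] {γ : ℕ → G} (hL : Lab γ tcI) (hr : ∀ t ∈ tcR, t.ev γ = 1) {K : Subgroup G}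
    (hK : ∀ t ∈ ([] : List W), t.ev γ ∈ K) :
    W.ev γ (.mul (.mul (.mul (.mul (.mul (.mul (.mul (.mul (.mul (.mul (.mul (.mul (.mul (.mul (.mul (.mul (.mul (.mul (.mul (.mul (.mul (.mul (.mul (.pow (.mul (.l 1) (.l 2)) 2) (.l 1)) (.inv (.l 2))) (.pow (.mul (.l 1) (.l 2)) 2)) (.l 1)) (.inv (.l 2))) (.l 1)) (.l 2)) (.pow (.mul (.l 1) (.inv (.l 2))) 2)) (.pow (.mul (.l 1) (.l 2)) 2)) (.l 1)) (.inv (.l 2))) (.l 1)) (.l 2)) (.pow (.mul (.l 1) (.inv (.l 2))) 2)) (.l 1)) (.l 2)) (.pow (.mul (.l 1) (.inv (.l 2))) 2)) (.pow (.mul (.l 1) (.l 2)) 2)) (.l 1)) (.inv (.l 2))) (.l 1)) (.l 2)) (.pow (.mul (.l 1) (.inv (.l 2))) 2)) ∈ K :=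
  TC.mem (D := ta) hL (List.forall_mem_cons.2 ⟨hL.zero_mem K, hK⟩) hr ta_head ta_blocks
    (n := (nat_lit 48)) (w := (nat_lit 0x184611046110441184611046118441184411046118441184411046110441)) (st := (nat_lit 0x3303508908b08d08f09109309509709909b09d09f0a10a30a50a70a90ab0ad0af0b188a08608408208007e07c07a07807607407207006e06c06a06806606406200a008006004002)) (by decide +kernel) (by decide +kernel)

theorem ta_mem2 {G : Type*} [Group G] {γ : ℕ → G} (hL : Lab γ tcI) (hr : ∀ t ∈ tcR, t.ev γ = 1) {K : Subgroup G}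
    (hK : ∀ t ∈ ([] : List W), t.ev γ ∈ K) :
    W.ev γ (.mul (.mul (.mul (.mul (.mul (.mul (.mul (.mul (.mul (.mul (.mul (.mul (.mul (.mul (.mul (.mul (.mul (.mul (.mul (.mul (.mul (.mul (.mul (.pow (.mul (.l 1) (.l 2)) 2) (.l 1)) (.inv (.l 2))) (.l 1)) (.l 2)) (.pow (.mul (.l 1) (.inv (.l 2))) 2)) (.pow (.mul (.l 1) (.l 2)) 2)) (.l 1)) (.inv (.l 2))) (.l 1)) (.l 2)) (.pow (.mul (.l 1) (.inv (.l 2))) 2)) (.pow (.mul (.l 1) (.l 2)) 2)) (.l 1)) (.inv (.l 2))) (.l 1)) (.l 2)) (.pow (.mul (.l 1) (.inv (.l 2))) 2)) (.pow (.mul (.l 1) (.l 2)) 2)) (.l 1)) (.inv (.l 2))) (.l 1)) (.l 2)) (.pow (.mul (.l 1) (.inv (.l 2))) 2)) ∈ K :=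
  TC.mem (D := ta) hL (List.forall_mem_cons.2 ⟨hL.zero_mem K, hK⟩) hr ta_head ta_blocks
    (n := (nat_lit 48)) (w := (nat_lit 0x184611046110441184611046110441184611046110441184611046110441)) (st := (nat_lit 0x3303508908b08d08f09109309509709909b09d09f0a10a30a50a70a90ab0d30d50d789a0d00ce0cc0ca0c80c60c40c20c00be0bc0ba0b80b60b406806606406200a008006004002)) (by decide +kernel) (by decide +kernel)

theorem ta_mem3 {G : Type*} [Group G] {γ : ℕ → G} (hL : Lab γ tcI) (hr : ∀ t ∈ tcR, t.ev γ = 1) {K : Subgroup G}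
    (hK : ∀ t ∈ ([] : List W), t.ev γ ∈ K) :
    W.ev γ (.mul (.mul (.mul (.mul (.mul (.mul (.mul (.mul (.mul (.mul (.mul (.mul (.mul (.mul (.mul (.mul (.mul (.pow (.mul (.l 1) (.l 2)) 5) (.pow (.mul (.l 1) (.inv (.l 2))) 2)) (.pow (.mul (.l 1) (.l 2)) 2)) (.pow (.mul (.l 1) (.inv (.l 2))) 2)) (.pow (.mul (.l 1) (.l 2)) 2)) (.pow (.mul (.l 1) (.inv (.l 2))) 2)) (.pow (.mul (.l 1) (.l 2)) 3)) (.l 1)) (.inv (.l 2))) (.l 1)) (.l 2)) (.pow (.mul (.l 1) (.inv (.l 2))) 2)) (.pow (.mul (.l 1) (.l 2)) 2)) (.l 1)) (.inv (.l 2))) (.pow (.mul (.l 1) (.l 2)) 2)) (.l 1)) (.inv (.l 2))) ∈ K :=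
  TC.mem (D := ta) hL (List.forall_mem_cons.2 ⟨hL.zero_mem K, hK⟩) hr ta_head ta_blocks
    (n := (nat_lit 56)) (w := (nat_lit 0x1844110461104411846110461104411046118441104611844110461184411044110441)) (st := (nat_lit 0x3303503703910510710910b10d10f11111311511711911b11d11f12112386a0c30c50c712512712986f1021000fe0fc0fa0f80f60f40f20f00ee0ec0ea0e80e60e40e20e00de0dc0da00e00c00a008006004002)) (by decide +kernel) (by decide +kernel)

theorem ta_mem4 {G : Type*} [Group G] {γ : ℕ → G} (hL : Lab γ tcI) (hr : ∀ t ∈ tcR, t.ev γ = 1) {K : Subgroup G}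
    (hK : ∀ t ∈ ([] : List W), t.ev γ ∈ K) :
    W.ev γ (.mul (.mul (.mul (.mul (.mul (.mul (.mul (.mul (.mul (.mul (.mul (.mul (.mul (.mul (.mul (.mul (.mul (.mul (.mul (.mul (.mul (.pow (.mul (.l 1) (.l 2)) 3) (.l 1)) (.inv (.l 2))) (.pow (.mul (.l 1) (.l 2)) 2)) (.l 1)) (.inv (.l 2))) (.pow (.mul (.l 1) (.l 2)) 2)) (.l 1)) (.inv (.l 2))) (.pow (.mul (.l 1) (.l 2)) 2)) (.l 1)) (.inv (.l 2))) (.l 1)) (.l 2)) (.l 1)) (.inv (.l 2))) (.pow (.mul (.l 1) (.l 2)) 3)) (.pow (.mul (.l 1) (.inv (.l 2))) 2)) (.pow (.mul (.l 1) (.l 2)) 2)) (.pow (.mul (.l 1) (.inv (.l 2))) 2)) (.pow (.mul (.l 1) (.l 2)) 2)) (.pow (.mul (.l 1) (.inv (.l 2))) 2)) ∈ K :=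
  TC.mem (D := ta) hL (List.forall_mem_cons.2 ⟨hL.zero_mem K, hK⟩) hr ta_head ta_blocks
    (n := (nat_lit 56)) (w := (nat_lit 0x1846110441184611044118461104411046110461104411844110461104411844110441)) (st := (nat_lit 0x3303508908b08d08f15115315515715915b15d15f16116316516716916b16d16f17117317517717990c14e14c14a14814614414214013e13c13a13813613413213012e12c12a01201000e00c00a008006004002)) (by decide +kernel) (by decide +kernel)

theorem ta_mem5 {G : Type*} [Group G] {γ : ℕ → G} (hL : Lab γ tcI) (hr : ∀ t ∈ tcR, t.ev γ = 1) {K : Subgroup G}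
    (hK : ∀ t ∈ ([] : List W), t.ev γ ∈ K) :
    W.ev γ (.mul (.mul (.mul (.mul (.mul (.mul (.mul (.mul (.mul (.mul (.mul (.mul (.mul (.mul (.mul (.mul (.mul (.mul (.mul (.mul (.mul (.mul (.mul (.mul (.mul (.mul (.mul (.mul (.mul (.mul (.mul (.mul (.mul (.pow (.mul (.l 1) (.l 2)) 3) (.pow (.mul (.l 1) (.inv (.l 2))) 3)) (.l 1)) (.l 2)) (.l 1)) (.inv (.l 2))) (.pow (.mul (.l 1) (.l 2)) 2)) (.l 1)) (.inv (.l 2))) (.l 1)) (.l 2)) (.pow (.mul (.l 1) (.inv (.l 2))) 2)) (.l 1)) (.l 2)) (.l 1)) (.inv (.l 2))) (.l 1)) (.l 2)) (.l 1)) (.inv (.l 2))) (.l 1)) (.l 2)) (.l 1)) (.inv (.l 2))) (.pow (.mul (.l 1) (.l 2)) 2)) (.l 1)) (.inv (.l 2))) (.l 1)) (.l 2)) (.pow (.mul (.l 1) (.inv (.l 2))) 2)) (.l 1)) (.l 2)) (.l 1)) (.inv (.l 2))) ∈ K :=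
  TC.mem (D := ta) hL (List.forall_mem_cons.2 ⟨hL.zero_mem K, hK⟩) hr ta_head ta_blocks
    (n := (nat_lit 56)) (w := (nat_lit 0x1844118461104611044118441184411844118461104611044118441184611844110441)) (st := (nat_lit 0x3303503703903b03d03f04104304504704904b04d04f05105305505705905b05d19f1a11a31a51a794219c19a19819619419219018e18c18a18818618418218017e17c01601401201000e00c00a008006004002)) (by decide +kernel) (by decide +kernel)

theorem ta_mem6 {G : Type*} [Group G] {γ : ℕ → G} (hL : Lab γ tcI) (hr : ∀ t ∈ tcR, t.ev γ = 1) {K : Subgroup G}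
    (hK : ∀ t ∈ ([] : List W), t.ev γ ∈ K) :
    W.ev γ (.mul (.mul (.mul (.mul (.mul (.mul (.mul (.mul (.mul (.mul (.mul (.mul (.mul (.mul (.mul (.mul (.mul (.mul (.mul (.mul (.mul (.mul (.mul (.mul (.mul (.mul (.pow (.mul (.l 1) (.l 2)) 5) (.l 1)) (.inv (.l 2))) (.pow (.mul (.l 1) (.l 2)) 2)) (.l 1)) (.inv (.l 2))) (.pow (.mul (.l 1) (.l 2)) 2)) (.l 1)) (.inv (.l 2))) (.l 1)) (.l 2)) (.pow (.mul (.l 1) (.inv (.l 2))) 2)) (.l 1)) (.l 2)) (.l 1)) (.inv (.l 2))) (.pow (.mul (.l 1) (.l 2)) 2)) (.pow (.mul (.l 1) (.inv (.l 2))) 2)) (.l 1)) (.l 2)) (.pow (.mul (.l 1) (.inv (.l 2))) 2)) (.pow (.mul (.l 1) (.l 2)) 2)) (.l 1)) (.inv (.l 2))) (.pow (.mul (.l 1) (.l 2)) 2)) (.l 1)) (.inv (.l 2))) ∈ K :=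
  TC.mem (D := ta) hL (List.forall_mem_cons.2 ⟨hL.zero_mem K, hK⟩) hr ta_head ta_blocks
    (n := (nat_lit 60)) (w := (nat_lit 0x184411046110441184611046118441104611046118441184411046110441184411044110441)) (st := (nat_lit 0x3303503703910510710910b10d10f11111311511711911b11d11f1211238690be0bc0ba1cd1cf1d11d31d587b1ca1c81c61c41c21c01be1bc1ba1b81b61b41b21b01ae1ac1aa0e40e20e00de0dc0da00e00c00a008006004002)) (by decide +kernel) (by decide +kernel)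

theorem ta_mem7 {G : Type*} [Group G] {γ : ℕ → G} (hL : Lab γ tcI) (hr : ∀ t ∈ tcR, t.ev γ = 1) {K : Subgroup G}
    (hK : ∀ t ∈ ([] : List W), t.ev γ ∈ K) :
    W.ev γ (.mul (.mul (.mul (.mul (.mul (.mul (.mul (.mul (.mul (.mul (.mul (.mul (.mul (.mul (.mul (.mul (.mul (.mul (.mul (.mul (.mul (.pow (.mul (.l 1) (.l 2)) 5) (.pow (.mul (.l 1) (.inv (.l 2))) 2)) (.pow (.mul (.l 1) (.l 2)) 2)) (.pow (.mul (.l 1) (.inv (.l 2))) 2)) (.pow (.mul (.l 1) (.l 2)) 2)) (.pow (.mul (.l 1) (.inv (.l 2))) 3)) (.l 1)) (.l 2)) (.l 1)) (.inv (.l 2))) (.l 1)) (.l 2)) (.pow (.mul (.l 1) (.inv (.l 2))) 2)) (.pow (.mul (.l 1) (.l 2)) 2)) (.l 1)) (.inv (.l 2))) (.l 1)) (.l 2)) (.pow (.mul (.l 1) (.inv (.l 2))) 2)) (.l 1)) (.l 2)) (.pow (.mul (.l 1) (.inv (.l 2))) 2)) ∈ K :=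
  TC.mem (D := ta) hL (List.forall_mem_cons.2 ⟨hL.zero_mem K, hK⟩) hr ta_head ta_blocks
    (n := (nat_lit 60)) (w := (nat_lit 0x184611046118441184411046118441184411846118441104611844110461184411044110441)) (st := (nat_lit 0x3303508908b08d08f0910931d71d91db1dd1df1e11e31e51e71e91eb1ed1ef1f11f31f51f71f98900ca86d12712986f1021000fe0fc0fa0f80f60f40f20f00ee0ec0ea0e80e60e40e20e00de0dc0da00e00c00a008006004002)) (by decide +kernel) (by decide +kernel)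

theorem ta_mem8 {G : Type*} [Group G] {γ : ℕ → G} (hL : Lab γ tcI) (hr : ∀ t ∈ tcR, t.ev γ = 1) {K : Subgroup G}
    (hK : ∀ t ∈ ([] : List W), t.ev γ ∈ K) :
    W.ev γ (.mul (.mul (.mul (.mul (.mul (.mul (.mul (.mul (.mul (.mul (.mul (.mul (.mul (.mul (.mul (.mul (.mul (.pow (.mul (.l 1) (.l 2)) 5) (.pow (.mul (.l 1) (.inv (.l 2))) 2)) (.pow (.mul (.l 1) (.l 2)) 2)) (.pow (.mul (.l 1) (.inv (.l 2))) 2)) (.pow (.mul (.l 1) (.l 2)) 2)) (.pow (.mul (.l 1) (.inv (.l 2))) 5)) (.pow (.mul (.l 1) (.l 2)) 2)) (.l 1)) (.inv (.l 2))) (.l 1)) (.l 2)) (.pow (.mul (.l 1) (.inv (.l 2))) 2)) (.pow (.mul (.l 1) (.l 2)) 2)) (.l 1)) (.inv (.l 2))) (.l 1)) (.l 2)) (.pow (.mul (.l 1) (.inv (.l 2))) 2)) ∈ K :=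
  TC.mem (D := ta) hL (List.forall_mem_cons.2 ⟨hL.zero_mem K, hK⟩) hr ta_head ta_blocks
    (n := (nat_lit 60)) (w := (nat_lit 0x184611046110441184611046110441184611846118441104611844110461184411044110441)) (st := (nat_lit 0x3303508908b08d08f09109309509709909b09d09f0a10a30a50a70a90ab0d30d50d789a0d00ce0cc0ca86d12712986f1021000fe0fc0fa0f80f60f40f20f00ee0ec0ea0e80e60e40e20e00de0dc0da00e00c00a008006004002)) (by decide +kernel) (by decide +kernel)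

theorem ta_mem9 {G : Type*} [Group G] {γ : ℕ → G} (hL : Lab γ tcI) (hr : ∀ t ∈ tcR, t.ev γ = 1) {K : Subgroup G}
    (hK : ∀ t ∈ ([] : List W), t.ev γ ∈ K) :
    W.ev γ (.mul (.mul (.mul (.mul (.mul (.mul (.mul (.mul (.mul (.mul (.mul (.mul (.mul (.mul (.mul (.mul (.mul (.pow (.mul (.l 1) (.l 2)) 5) (.pow (.mul (.l 1) (.inv (.l 2))) 2)) (.pow (.mul (.l 1) (.l 2)) 2)) (.pow (.mul (.l 1) (.inv (.l 2))) 2)) (.pow (.mul (.l 1) (.l 2)) 2)) (.pow (.mul (.l 1) (.inv (.l 2))) 5)) (.l 1)) (.l 2)) (.pow (.mul (.l 1) (.inv (.l 2))) 2)) (.pow (.mul (.l 1) (.l 2)) 2)) (.l 1)) (.inv (.l 2))) (.l 1)) (.l 2)) (.pow (.mul (.l 1) (.inv (.l 2))) 2)) (.pow (.mul (.l 1) (.l 2)) 2)) (.l 1)) (.inv (.l 2))) ∈ K :=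
  TC.mem (D := ta) hL (List.forall_mem_cons.2 ⟨hL.zero_mem K, hK⟩) hr ta_head ta_blocks
    (n := (nat_lit 60)) (w := (nat_lit 0x184411046118441184411046118441184611846118441104611844110461184411044110441)) (st := (nat_lit 0x3303503703910510710910b20320520720920b20d88608508788b0b00ae8650d50d789a0d00ce0cc0ca86d12712986f1021000fe0fc0fa0f80f60f40f20f00ee0ec0ea0e80e60e40e20e00de0dc0da00e00c00a008006004002)) (by decide +kernel) (by decide +kernel)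

theorem ta_mem10 {G : Type*} [Group G] {γ : ℕ → G} (hL : Lab γ tcI) (hr : ∀ t ∈ tcR, t.ev γ = 1) {K : Subgroup G}
    (hK : ∀ t ∈ ([] : List W), t.ev γ ∈ K) :
    W.ev γ (.mul (.mul (.mul (.mul (.mul (.mul (.mul (.mul (.mul (.mul (.mul (.mul (.mul (.mul (.mul (.pow (.mul (.l 1) (.l 2)) 4) (.l 1)) (.inv (.l 2))) (.pow (.mul (.l 1) (.l 2)) 3)) (.pow (.mul (.l 1) (.inv (.l 2))) 3)) (.l 1)) (.l 2)) (.pow (.mul (.l 1) (.inv (.l 2))) 3)) (.pow (.mul (.l 1) (.l 2)) 4)) (.l 1)) (.inv (.l 2))) (.pow (.mul (.l 1) (.l 2)) 3)) (.pow (.mul (.l 1) (.inv (.l 2))) 3)) (.l 1)) (.l 2)) (.pow (.mul (.l 1) (.inv (.l 2))) 3)) ∈ K :=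
  TC.mem (D := ta) hL (List.forall_mem_cons.2 ⟨hL.zero_mem K, hK⟩) hr ta_head ta_blocks
    (n := (nat_lit 60)) (w := (nat_lit 0x184611844118461184411044118441104411046118461104611846110441104611044110441)) (st := (nat_lit 0x3303508908b23923b23d23f24124324524724924b24d24f25125325525725925b25d25f2612632652672699e623623423223022e22c22a22822622422222021e21c21a21821621421221020e0dc0da00e00c00a008006004002)) (by decide +kernel) (by decide +kernel)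

theorem ta_mem11 {G : Type*} [Group G] {γ : ℕ → G} (hL : Lab γ tcI) (hr : ∀ t ∈ tcR, t.ev γ = 1) {K : Subgroup G}
    (hK : ∀ t ∈ ([] : List W), t.ev γ ∈ K) :
    W.ev γ (.mul (.mul (.mul (.mul (.mul (.mul (.mul (.mul (.mul (.mul (.mul (.mul (.mul (.mul (.mul (.mul (.mul (.mul (.mul (.mul (.mul (.mul (.mul (.mul (.mul (.pow (.mul (.l 1) (.l 2)) 4) (.pow (.mul (.l 1) (.inv (.l 2))) 2)) (.pow (.mul (.l 1) (.l 2)) 2)) (.l 1)) (.inv (.l 2))) (.pow (.mul (.l 1) (.l 2)) 2)) (.l 1)) (.inv (.l 2))) (.pow (.mul (.l 1) (.l 2)) 2)) (.l 1)) (.inv (.l 2))) (.l 1)) (.l 2)) (.l 1)) (.inv (.l 2))) (.pow (.mul (.l 1) (.l 2)) 2)) (.pow (.mul (.l 1) (.inv (.l 2))) 2)) (.l 1)) (.l 2)) (.pow (.mul (.l 1) (.inv (.l 2))) 2)) (.pow (.mul (.l 1) (.l 2)) 2)) (.l 1)) (.inv (.l 2))) (.pow (.mul (.l 1) (.l 2)) 2)) (.l 1)) (.inv (.l 2))) ∈ K :=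
  TC.mem (D := ta) hL (List.forall_mem_cons.2 ⟨hL.zero_mem K, hK⟩) hr ta_head ta_blocks
    (n := (nat_lit 60)) (w := (nat_lit 0x184411046110441184611046118441104611046110441184411046110441184611044110441)) (st := (nat_lit 0x3303503703910510710910b10d10f11111311511711911b11d11f1211238690be0bc0ba1cd1cf1d11d31d587b1ca1c88a028a28828628428228027e27c27a27827627427227026e26c21020e0dc0da00e00c00a008006004002)) (by decide +kernel) (by decide +kernel)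

theorem ta_mem12 {G : Type*} [Group G] {γ : ℕ → G} (hL : Lab γ tcI) (hr : ∀ t ∈ tcR, t.ev γ = 1) {K : Subgroup G}
    (hK : ∀ t ∈ ([] : List W), t.ev γ ∈ K) :
    W.ev γ (.mul (.mul (.mul (.mul (.mul (.mul (.mul (.mul (.mul (.mul (.mul (.mul (.mul (.mul (.mul (.mul (.mul (.mul (.mul (.mul (.mul (.pow (.mul (.l 1) (.l 2)) 4) (.pow (.mul (.l 1) (.inv (.l 2))) 2)) (.l 1)) (.l 2)) (.pow (.mul (.l 1) (.inv (.l 2))) 2)) (.pow (.mul (.l 1) (.l 2)) 2)) (.l 1)) (.inv (.l 2))) (.pow (.mul (.l 1) (.l 2)) 2)) (.l 1)) (.inv (.l 2))) (.pow (.mul (.l 1) (.l 2)) 4)) (.pow (.mul (.l 1) (.inv (.l 2))) 2)) (.l 1)) (.l 2)) (.pow (.mul (.l 1) (.inv (.l 2))) 2)) (.pow (.mul (.l 1) (.l 2)) 2)) (.l 1)) (.inv (.l 2))) (.pow (.mul (.l 1) (.l 2)) 2)) (.l 1)) (.inv (.l 2))) ∈ K :=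
  TC.mem (D := ta) hL (List.forall_mem_cons.2 ⟨hL.zero_mem K, hK⟩) hr ta_head ta_blocks
    (n := (nat_lit 60)) (w := (nat_lit 0x184411046110441184611046118441104411046110441184411046118441184611044110441)) (st := (nat_lit 0x3303503703910510710910b10d10f11111311511711911b11d11f1211238690be0bc0ba1cd1cf2ab2ad2af8a72a82a62a42a22a029e29c29a29829629429229028e28c27227026e26c21020e0dc0da00e00c00a008006004002)) (by decide +kernel) (by decide +kernel)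

theorem ta_mem13 {G : Type*} [Group G] {γ : ℕ → G} (hL : Lab γ tcI) (hr : ∀ t ∈ tcR, t.ev γ = 1) {K : Subgroup G}
    (hK : ∀ t ∈ ([] : List W), t.ev γ ∈ K) :
    W.ev γ (.mul (.mul (.mul (.mul (.mul (.mul (.mul (.mul (.mul (.mul (.mul (.mul (.mul (.mul (.mul (.mul (.mul (.mul (.mul (.mul (.mul (.mul (.mul (.mul (.mul (.mul (.mul (.mul (.mul (.mul (.mul (.pow (.mul (.l 1) (.l 2)) 3) (.l 1)) (.inv (.l 2))) (.pow (.mul (.l 1) (.l 2)) 2)) (.l 1)) (.inv (.l 2))) (.pow (.mul (.l 1) (.l 2)) 2)) (.l 1)) (.inv (.l 2))) (.l 1)) (.l 2)) (.pow (.mul (.l 1) (.inv (.l 2))) 2)) (.l 1)) (.l 2)) (.l 1)) (.inv (.l 2))) (.pow (.mul (.l 1) (.l 2)) 3)) (.l 1)) (.inv (.l 2))) (.pow (.mul (.l 1) (.l 2)) 2)) (.l 1)) (.inv (.l 2))) (.pow (.mul (.l 1) (.l 2)) 2)) (.l 1)) (.inv (.l 2))) (.l 1)) (.l 2)) (.pow (.mul (.l 1) (.inv (.l 2))) 2)) (.l 1)) (.l 2)) (.l 1)) (.inv (.l 2))) ∈ K :=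
  TC.mem (D := ta) hL (List.forall_mem_cons.2 ⟨hL.zero_mem K, hK⟩) hr ta_head ta_blocks
    (n := (nat_lit 60)) (w := (nat_lit 0x184411846110461104411844110461104411046110461184411844110461104411844110441)) (st := (nat_lit 0x3303503703903b03d03f04104304504704904b04d04f0510530550570592bf2c12c32c52c72c92cb2cd2cf9482bc2ba2b82b62b42b22b014414214013e13c13a13813613413213012e12c12a01201000e00c00a008006004002)) (by decide +kernel) (by decide +kernel)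

theorem ta_mem14 {G : Type*} [Group G] {γ : ℕ → G} (hL : Lab γ tcI) (hr : ∀ t ∈ tcR, t.ev γ = 1) {K : Subgroup G}
    (hK : ∀ t ∈ ([] : List W), t.ev γ ∈ K) :
    W.ev γ (.mul (.mul (.mul (.mul (.mul (.mul (.mul (.mul (.mul (.mul (.mul (.mul (.mul (.mul (.mul (.mul (.mul (.mul (.mul (.mul (.mul (.mul (.mul (.mul (.mul (.mul (.mul (.mul (.mul (.mul (.pow (.mul (.l 1) (.l 2)) 3) (.l 1)) (.inv (.l 2))) (.pow (.mul (.l 1) (.l 2)) 2)) (.l 1)) (.inv (.l 2))) (.pow (.mul (.l 1) (.l 2)) 2)) (.l 1)) (.inv (.l 2))) (.l 1)) (.l 2)) (.pow (.mul (.l 1) (.inv (.l 2))) 2)) (.l 1)) (.l 2)) (.l 1)) (.inv (.l 2))) (.pow (.mul (.l 1) (.l 2)) 2)) (.pow (.mul (.l 1) (.inv (.l 2))) 2)) (.pow (.mul (.l 1) (.l 2)) 2)) (.l 1)) (.inv (.l 2))) (.pow (.mul (.l 1) (.l 2)) 2)) (.l 1)) (.inv (.l 2))) (.pow (.mul (.l 1) (.l 2)) 2)) (.l 1)) (.inv (.l 2))) (.l 1)) (.l 2)) (.l 1)) (.inv (.l 2))) ∈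 K :=
  TC.mem (D := ta) hL (List.forall_mem_cons.2 ⟨hL.zero_mem K, hK⟩) hr ta_head ta_blocks
    (n := (nat_lit 60)) (w := (nat_lit 0x184411844110461104411844110461184411046110461184411844110461104411844110441)) (st := (nat_lit 0x3303503703903b03d2d32d52d72d92db2dd2df2e12e32e52e72e92eb2ed2ef2f12f32f58b12c92cb2cd2cf9482bc2ba2b82b62b42b22b014414214013e13c13a13813613413213012e12c12a01201000e00c00a008006004002)) (by decide +kernel) (by decide +kernel)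

theorem ta_mem15 {G : Type*} [Group G] {γ : ℕ → G} (hL : Lab γ tcI) (hr : ∀ t ∈ tcR, t.ev γ = 1) {K : Subgroup G}
    (hK : ∀ t ∈ ([] : List W), t.ev γ ∈ K) :
    W.ev γ (.mul (.mul (.mul (.mul (.mul (.mul (.mul (.mul (.mul (.mul (.mul (.mul (.mul (.mul (.mul (.mul (.mul (.mul (.mul (.mul (.mul (.mul (.mul (.mul (.mul (.mul (.mul (.mul (.mul (.mul (.mul (.pow (.mul (.l 1) (.l 2)) 3) (.pow (.mul (.l 1) (.inv (.l 2))) 2)) (.pow (.mul (.l 1) (.l 2)) 2)) (.l 1)) (.inv (.l 2))) (.pow (.mul (.l 1) (.l 2)) 2)) (.pow (.mul (.l 1) (.inv (.l 2))) 3)) (.pow (.mul (.l 1) (.l 2)) 2)) (.l 1)) (.inv (.l 2))) (.l 1)) (.l 2)) (.l 1)) (.inv (.l 2))) (.l 1)) (.l 2)) (.l 1)) (.inv (.l 2))) (.pow (.mul (.l 1) (.l 2)) 2)) (.l 1)) (.inv (.l 2))) (.l 1)) (.l 2)) (.l 1)) (.inv (.l 2))) (.l 1)) (.l 2)) (.l 1)) (.inv (.l 2))) (.pow (.mul (.l 1) (.l 2)) 2)) (.l 1)) (.inv (.l 2))) ∈ K :=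
  TC.mem (D := ta) hL (List.forall_mem_cons.2 ⟨hL.zero_mem K, hK⟩) hr ta_head ta_blocks
    (n := (nat_lit 60)) (w := (nat_lit 0x184411046110461104611044118441184411844110461184611044118441104611844110441)) (st := (nat_lit 0x3303503703910510710910b10d10f31131331531731931b31d31f32132332532732932b32d32f33133333599230e30c30a3083063043023002fe2fc2fa2f82f602202001e01c01a01801601401201000e00c00a008006004002)) (by decide +kernel) (by decide +kernel)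

theorem ta_mem16 {G : Type*} [Group G] {γ : ℕ → G} (hL : Lab γ tcI) (hr : ∀ t ∈ tcR, t.ev γ = 1) {K : Subgroup G}
    (hK : ∀ t ∈ ([] : List W), t.ev γ ∈ K) :
    W.ev γ (.mul (.mul (.mul (.mul (.mul (.mul (.mul (.mul (.mul (.mul (.mul (.mul (.mul (.mul (.mul (.mul (.mul (.mul (.mul (.mul (.mul (.mul (.mul (.mul (.mul (.mul (.mul (.mul (.mul (.pow (.mul (.l 1) (.l 2)) 2) (.l 1)) (.inv (.l 2))) (.pow (.mul (.l 1) (.l 2)) 2)) (.l 1)) (.inv (.l 2))) (.pow (.mul (.l 1) (.l 2)) 2)) (.l 1)) (.inv (.l 2))) (.pow (.mul (.l 1) (.l 2)) 2)) (.l 1)) (.inv (.l 2))) (.pow (.mul (.l 1) (.l 2)) 2)) (.l 1)) (.inv (.l 2))) (.pow (.mul (.l 1) (.l 2)) 2)) (.l 1)) (.inv (.l 2))) (.pow (.mul (.l 1) (.l 2)) 2)) (.l 1)) (.inv (.l 2))) (.l 1)) (.l 2)) (.pow (.mul (.l 1) (.inv (.l 2))) 2)) (.pow (.mul (.l 1) (.l 2)) 2)) (.l 1)) (.inv (.l 2))) (.l 1)) (.l 2)) (.pow (.mul (.l 1) (.inv (.l 2)))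 2)) ∈ K :=
  TC.mem (D := ta) hL (List.forall_mem_cons.2 ⟨hL.zero_mem K, hK⟩) hr ta_head ta_blocks
    (n := (nat_lit 60)) (w := (nat_lit 0x184611046110441184611046110441184411046110441184411046110441184411046110441)) (st := (nat_lit 0x3303508908b08d08f09109309509709909b09d09f0a10a30a50a70a90ab0d30d50d789a0d00ce8971f81f61f41f21f01ee1ec1ea1e81e61e48b834234033e33c33a33807407207006e06c06a06806606406200a008006004002)) (by decide +kernel) (by decide +kernel)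

theorem ta_mem17 {G : Type*} [Group G] {γ : ℕ → G} (hL : Lab γ tcI) (hr : ∀ t ∈ tcR, t.ev γ = 1) {K : Subgroup G}
    (hK : ∀ t ∈ ([] : List W), t.ev γ ∈ K) :
    W.ev γ (.mul (.mul (.mul (.mul (.mul (.mul (.mul (.mul (.mul (.mul (.mul (.mul (.mul (.mul (.mul (.mul (.mul (.mul (.mul (.mul (.mul (.mul (.mul (.mul (.mul (.mul (.mul (.mul (.mul (.pow (.mul (.l 1) (.l 2)) 2) (.l 1)) (.inv (.l 2))) (.pow (.mul (.l 1) (.l 2)) 2)) (.l 1)) (.inv (.l 2))) (.pow (.mul (.l 1) (.l 2)) 2)) (.l 1)) (.inv (.l 2))) (.pow (.mul (.l 1) (.l 2)) 2)) (.l 1)) (.inv (.l 2))) (.l 1)) (.l 2)) (.pow (.mul (.l 1) (.inv (.l 2))) 2)) (.pow (.mul (.l 1) (.l 2)) 2)) (.l 1)) (.inv (.l 2))) (.pow (.mul (.l 1) (.l 2)) 2)) (.l 1)) (.inv (.l 2))) (.pow (.mul (.l 1) (.l 2)) 2)) (.l 1)) (.inv (.l 2))) (.pow (.mul (.l 1) (.l 2)) 2)) (.l 1)) (.inv (.l 2))) (.l 1)) (.l 2)) (.pow (.mul (.l 1) (.inv (.l 2)))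 2)) ∈ K :=
  TC.mem (D := ta) hL (List.forall_mem_cons.2 ⟨hL.zero_mem K, hK⟩) hr ta_head ta_blocks
    (n := (nat_lit 60)) (w := (nat_lit 0x184611046110441184411046110441184411046118441184411046110441184411046110441)) (st := (nat_lit 0x3303508908b08d08f09109309509709909b09d09f34b34d34f35135335535735935b35d35f3613633653678c13483463441ec1ea1e81e61e48b834234033e33c33a33807407207006e06c06a06806606406200a008006004002)) (by decide +kernel) (by decide +kernel)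

theorem ta_mem18 {G : Type*} [Group G] {γ : ℕ → G} (hL : Lab γ tcI) (hr : ∀ t ∈ tcR, t.ev γ = 1) {K : Subgroup G}
    (hK : ∀ t ∈ ([] : List W), t.ev γ ∈ K) :
    W.ev γ (.mul (.mul (.mul (.mul (.mul (.mul (.mul (.mul (.mul (.mul (.mul (.mul (.mul (.mul (.mul (.mul (.mul (.mul (.mul (.mul (.mul (.mul (.mul (.mul (.mul (.mul (.mul (.mul (.mul (.pow (.mul (.l 1) (.l 2)) 2) (.l 1)) (.inv (.l 2))) (.pow (.mul (.l 1) (.l 2)) 2)) (.l 1)) (.inv (.l 2))) (.pow (.mul (.l 1) (.l 2)) 2)) (.l 1)) (.inv (.l 2))) (.l 1)) (.l 2)) (.l 1)) (.inv (.l 2))) (.pow (.mul (.l 1) (.l 2)) 2)) (.pow (.mul (.l 1) (.inv (.l 2))) 2)) (.pow (.mul (.l 1) (.l 2)) 2)) (.l 1)) (.inv (.l 2))) (.pow (.mul (.l 1) (.l 2)) 2)) (.l 1)) (.inv (.l 2))) (.pow (.mul (.l 1) (.l 2)) 2)) (.l 1)) (.inv (.l 2))) (.l 1)) (.l 2)) (.l 1)) (.inv (.l 2))) (.pow (.mul (.l 1) (.l 2)) 2)) (.pow (.mul (.l 1) (.inv (.l 2)))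 2)) ∈ K :=
  TC.mem (D := ta) hL (List.forall_mem_cons.2 ⟨hL.zero_mem K, hK⟩) hr ta_head ta_blocks
    (n := (nat_lit 60)) (w := (nat_lit 0x184611044118441184411046110441184411046118441104611046110441184411046110441)) (st := (nat_lit 0x3303508908b08d08f15115315515737737937b37d37f38138338538738938b38d38f39139339539739939b8c537437237036e36c36a3681e18ba34234033e33c33a33807407207006e06c06a06806606406200a008006004002)) (by decide +kernel) (by decide +kernel)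

theorem ta_mem19 {G : Type*} [Group G] {γ : ℕ → G} (hL : Lab γ tcI) (hr : ∀ t ∈ tcR, t.ev γ = 1) {K : Subgroup G}
    (hK : ∀ t ∈ ([] : List W), t.ev γ ∈ K) :
    W.ev γ (.mul (.mul (.mul (.mul (.mul (.mul (.mul (.mul (.mul (.mul (.mul (.mul (.mul (.mul (.mul (.mul (.mul (.mul (.mul (.mul (.mul (.mul (.mul (.mul (.mul (.mul (.mul (.mul (.mul (.pow (.mul (.l 1) (.l 2)) 2) (.l 1)) (.inv (.l 2))) (.pow (.mul (.l 1) (.l 2)) 2)) (.l 1)) (.inv (.l 2))) (.l 1)) (.l 2)) (.pow (.mul (.l 1) (.inv (.l 2))) 2)) (.pow (.mul (.l 1) (.l 2)) 2)) (.l 1)) (.inv (.l 2))) (.pow (.mul (.l 1) (.l 2)) 2)) (.l 1)) (.inv (.l 2))) (.l 1)) (.l 2)) (.pow (.mul (.l 1) (.inv (.l 2))) 2)) (.l 1)) (.l 2)) (.pow (.mul (.l 1) (.inv (.l 2))) 2)) (.pow (.mul (.l 1) (.l 2)) 2)) (.l 1)) (.inv (.l 2))) (.l 1)) (.l 2)) (.pow (.mul (.l 1) (.inv (.l 2))) 2)) (.l 1)) (.l 2)) (.pow (.mul (.l 1) (.inv (.l 2)))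 2)) ∈ K :=
  TC.mem (D := ta) hL (List.forall_mem_cons.2 ⟨hL.zero_mem K, hK⟩) hr ta_head ta_blocks
    (n := (nat_lit 60)) (w := (nat_lit 0x184611046118441184411046118441184611046110441184411046118441184411046110441)) (st := (nat_lit 0x3303508908b08d08f0910931d71d91db1dd1df1e11e31e51e71e91eb1ed1ef1f11f31f51f71f98960cf0d189b0d60d48640af0b188a08608408208007e07c07a07807607407207006e06c06a06806606406200a008006004002)) (by decide +kernel) (by decide +kernel)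

theorem ta_mem20 {G : Type*} [Group G] {γ : ℕ → G} (hL : Lab γ tcI) (hr : ∀ t ∈ tcR, t.ev γ = 1) {K : Subgroup G}
    (hK : ∀ t ∈ ([] : List W), t.ev γ ∈ K) :
    W.ev γ (.mul (.mul (.mul (.mul (.mul (.mul (.mul (.mul (.mul (.mul (.mul (.mul (.mul (.mul (.mul (.mul (.mul (.mul (.mul (.mul (.mul (.mul (.mul (.mul (.mul (.mul (.pow (.mul (.l 1) (.l 2)) 5) (.l 1)) (.inv (.l 2))) (.pow (.mul (.l 1) (.l 2)) 2)) (.l 1)) (.inv (.l 2))) (.pow (.mul (.l 1) (.l 2)) 2)) (.l 1)) (.inv (.l 2))) (.l 1)) (.l 2)) (.pow (.mul (.l 1) (.inv (.l 2))) 2)) (.l 1)) (.l 2)) (.pow (.mul (.l 1) (.inv (.l 2))) 4)) (.pow (.mul (.l 1) (.l 2)) 2)) (.l 1)) (.inv (.l 2))) (.l 1)) (.l 2)) (.pow (.mul (.l 1) (.inv (.l 2))) 2)) (.l 1)) (.l 2)) (.pow (.mul (.l 1) (.inv (.l 2))) 2)) (.l 1)) (.l 2)) (.pow (.mul (.l 1) (.inv (.l 2))) 2)) ∈ K :=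
  TC.mem (D := ta) hL (List.forall_mem_cons.2 ⟨hL.zero_mem K, hK⟩) hr ta_head ta_blocks
    (n := (nat_lit 64)) (w := (nat_lit 0x18461104611844118461104611044118461184611046118441184411046110441184411044110441)) (st := (nat_lit 0x3303508908b08d08f0910931d71d91db1dd1df1e18ba34234033e33c33a33807407207006e06c8630b78791cf1d11d31d587b1ca1c81c61c41c21c01be1bc1ba1b81b61b41b21b01ae1ac1aa0e40e20e00de0dc0da00e00c00a008006004002)) (by decide +kernel) (by decide +kernel)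

theorem ta_mem21 {G : Type*} [Group G] {γ : ℕ → G} (hL : Lab γ tcI) (hr : ∀ t ∈ tcR, t.ev γ = 1) {K : Subgroup G}
    (hK : ∀ t ∈ ([] : List W), t.ev γ ∈ K) :
    W.ev γ (.mul (.mul (.mul (.mul (.mul (.mul (.mul (.mul (.mul (.mul (.mul (.mul (.mul (.mul (.mul (.mul (.mul (.mul (.mul (.mul (.mul (.mul (.mul (.mul (.mul (.mul (.pow (.mul (.l 1) (.l 2)) 5) (.l 1)) (.inv (.l 2))) (.pow (.mul (.l 1) (.l 2)) 2)) (.l 1)) (.inv (.l 2))) (.pow (.mul (.l 1) (.l 2)) 2)) (.l 1)) (.inv (.l 2))) (.l 1)) (.l 2)) (.pow (.mul (.l 1) (.inv (.l 2))) 2)) (.l 1)) (.l 2)) (.pow (.mul (.l 1) (.inv (.l 2))) 4)) (.l 1)) (.l 2)) (.pow (.mul (.l 1) (.inv (.l 2))) 2)) (.l 1)) (.l 2)) (.pow (.mul (.l 1) (.inv (.l 2))) 2)) (.l 1)) (.l 2)) (.pow (.mul (.l 1) (.inv (.l 2))) 2)) (.pow (.mul (.l 1) (.l 2)) 2)) (.l 1)) (.inv (.l 2))) ∈ K :=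
  TC.mem (D := ta) hL (List.forall_mem_cons.2 ⟨hL.zero_mem K, hK⟩) hr ta_head ta_blocks
    (n := (nat_lit 64)) (w := (nat_lit 0x18441104611844118461104611844118461184611046118441184411046110441184411044110441)) (st := (nat_lit 0x3303503703910510710910b20320520720920b20d88508007e07c07a07807607407207006e06c8630b78791cf1d11d31d587b1ca1c81c61c41c21c01be1bc1ba1b81b61b41b21b01ae1ac1aa0e40e20e00de0dc0da00e00c00a008006004002)) (by decide +kernel) (by decide +kernel)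

theorem ta_mem22 {G : Type*} [Group G] {γ : ℕ → G} (hL : Lab γ tcI) (hr : ∀ t ∈ tcR, t.ev γ = 1) {K : Subgroup G}
    (hK : ∀ t ∈ ([] : List W), t.ev γ ∈ K) :
    W.ev γ (.mul (.mul (.mul (.mul (.mul (.mul (.mul (.mul (.mul (.mul (.mul (.mul (.mul (.mul (.mul (.mul (.mul (.mul (.mul (.mul (.mul (.mul (.mul (.mul (.mul (.mul (.pow (.mul (.l 1) (.l 2)) 5) (.l 1)) (.inv (.l 2))) (.l 1)) (.l 2)) (.pow (.mul (.l 1) (.inv (.l 2))) 2)) (.l 1)) (.l 2)) (.pow (.mul (.l 1) (.inv (.l 2))) 2)) (.l 1)) (.l 2)) (.pow (.mul (.l 1) (.inv (.l 2))) 3)) (.l 1)) (.l 2)) (.l 1)) (.inv (.l 2))) (.l 1)) (.l 2)) (.pow (.mul (.l 1) (.inv (.l 2))) 2)) (.l 1)) (.l 2)) (.l 1)) (.inv (.l 2))) (.pow (.mul (.l 1) (.l 2)) 3)) (.pow (.mul (.l 1) (.inv (.l 2))) 2)) (.pow (.mul (.l 1) (.l 2)) 2)) (.pow (.mul (.l 1) (.inv (.l 2))) 2)) ∈ K :=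
  TC.mem (D := ta) hL (List.forall_mem_cons.2 ⟨hL.zero_mem K, hK⟩) hr ta_head ta_blocks
    (n := (nat_lit 64)) (w := (nat_lit 0x18461104411846110441104611046118441184411846118441184611046118441184411044110441)) (st := (nat_lit 0x3303508908b08d08f15115315515715915b15d15f1611633bf3c13c33c53c73c93cb3cd3cf3d13d33d53d73d93db9833bc3ba3b83b63b43b23b03ae3ac3aa3a83a63a43a23a039e39c1ac1aa0e40e20e00de0dc0da00e00c00a008006004002)) (by decide +kernel) (by decide +kernel)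

theorem ta_mem23 {G : Type*} [Group G] {γ : ℕ → G} (hL : Lab γ tcI) (hr : ∀ t ∈ tcR, t.ev γ = 1) {K : Subgroup G}
    (hK : ∀ t ∈ ([] : List W), t.ev γ ∈ K) :
    W.ev γ (.mul (.mul (.mul (.mul (.mul (.mul (.mul (.mul (.mul (.mul (.mul (.mul (.mul (.mul (.mul (.mul (.mul (.mul (.mul (.mul (.mul (.mul (.mul (.mul (.mul (.mul (.mul (.pow (.mul (.l 1) (.l 2)) 5) (.pow (.mul (.l 1) (.inv (.l 2))) 3)) (.l 1)) (.l 2)) (.l 1)) (.inv (.l 2))) (.pow (.mul (.l 1) (.l 2)) 2)) (.l 1)) (.inv (.l 2))) (.l 1)) (.l 2)) (.pow (.mul (.l 1) (.inv (.l 2))) 2)) (.l 1)) (.l 2)) (.l 1)) (.inv (.l 2))) (.pow (.mul (.l 1) (.l 2)) 4)) (.l 1)) (.inv (.l 2))) (.l 1)) (.l 2)) (.pow (.mul (.l 1) (.inv (.l 2))) 2)) (.pow (.mul (.l 1) (.l 2)) 2)) (.l 1)) (.inv (.l 2))) (.pow (.mul (.l 1) (.l 2)) 2)) (.l 1)) (.inv (.l 2))) ∈ K :=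
  TC.mem (D := ta) hL (List.forall_mem_cons.2 ⟨hL.zero_mem K, hK⟩) hr ta_head ta_blocks
    (n := (nat_lit 64)) (w := (nat_lit 0x18441104611044118461104611044110441184411846110461104411844118461184411044110441)) (st := (nat_lit 0x3303503703910510710910b10d10f11111311511711911b11d11f12112386a0c30c50c71251274014034054074098cd3fe3fc3fa3f83f63f43f23f03ee3ec3ea3e83e63e43e23e03de0e80e60e40e20e00de0dc0da00e00c00a008006004002)) (by decide +kernel) (by decide +kernel)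

theorem ta_mem24 {G : Type*} [Group G] {γ : ℕ → G} (hL : Lab γ tcI) (hr : ∀ t ∈ tcR, t.ev γ = 1) {K : Subgroup G}
    (hK : ∀ t ∈ ([] : List W), t.ev γ ∈ K) :
    W.ev γ (.mul (.mul (.mul (.mul (.mul (.mul (.mul (.mul (.mul (.mul (.mul (.mul (.mul (.mul (.mul (.mul (.mul (.mul (.mul (.mul (.mul (.mul (.mul (.mul (.mul (.mul (.mul (.mul (.mul (.mul (.mul (.mul (.mul (.mul (.mul (.mul (.pow (.mul (.l 1) (.l 2)) 4) (.l 1)) (.inv (.l 2))) (.pow (.mul (.l 1) (.l 2)) 2)) (.l 1)) (.inv (.l 2))) (.pow (.mul (.l 1) (.l 2)) 2)) (.l 1)) (.inv (.l 2))) (.pow (.mul (.l 1) (.l 2)) 3)) (.l 1)) (.inv (.l 2))) (.pow (.mul (.l 1) (.l 2)) 2)) (.l 1)) (.inv (.l 2))) (.l 1)) (.l 2)) (.l 1)) (.inv (.l 2))) (.l 1)) (.l 2)) (.l 1)) (.inv (.l 2))) (.pow (.mul (.l 1) (.l 2)) 2)) (.l 1)) (.inv (.l 2))) (.l 1)) (.l 2)) (.l 1)) (.inv (.l 2))) (.l 1)) (.l 2)) (.l 1)) (.inv (.l 2))) (.pow (.mul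 (.l 1) (.l 2)) 2)) (.l 1)) (.inv (.l 2))) ∈ K :=
  TC.mem (D := ta) hL (List.forall_mem_cons.2 ⟨hL.zero_mem K, hK⟩) hr ta_head ta_blocks
    (n := (nat_lit 64)) (w := (nat_lit 0x18441104611046110461104411844118441184411046110441104611044118441104611044110441)) (st := (nat_lit 0x3303503703910510710910b10d10f31131331531731931b31d31f32132332532732932b32d32f33133333599230e30c30a3083063048d042041e41c41a41841641441241040e40c40a21821621421221020e0dc0da00e00c00a008006004002)) (by decide +kernel) (by decide +kernel)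

theorem ta_mem25 {G : Type*} [Group G] {γ : ℕ → G} (hL : Lab γ tcI) (hr : ∀ t ∈ tcR, t.ev γ = 1) {K : Subgroup G}
    (hK : ∀ t ∈ ([] : List W), t.ev γ ∈ K) :
    W.ev γ (.mul (.mul (.mul (.mul (.mul (.mul (.mul (.mul (.mul (.mul (.mul (.mul (.mul (.mul (.mul (.mul (.mul (.mul (.mul (.mul (.mul (.mul (.mul (.mul (.mul (.mul (.mul (.mul (.mul (.mul (.mul (.pow (.mul (.l 1) (.l 2)) 4) (.l 1)) (.inv (.l 2))) (.pow (.mul (.l 1) (.l 2)) 2)) (.l 1)) (.inv (.l 2))) (.pow (.mul (.l 1) (.l 2)) 2)) (.l 1)) (.inv (.l 2))) (.pow (.mul (.l 1) (.l 2)) 2)) (.l 1)) (.inv (.l 2))) (.l 1)) (.l 2)) (.l 1)) (.inv (.l 2))) (.pow (.mul (.l 1) (.l 2)) 3)) (.pow (.mul (.l 1) (.inv (.l 2))) 3)) (.l 1)) (.l 2)) (.l 1)) (.inv (.l 2))) (.pow (.mul (.l 1) (.l 2)) 2)) (.l 1)) (.inv (.l 2))) (.l 1)) (.l 2)) (.pow (.mul (.l 1) (.inv (.l 2))) 2)) (.l 1)) (.l 2)) (.l 1)) (.inv (.l 2))) ∈ K :=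
  TC.mem (D := ta) hL (List.forall_mem_cons.2 ⟨hL.zero_mem K, hK⟩) hr ta_head ta_blocks
    (n := (nat_lit 64)) (w := (nat_lit 0x18441184611046110441184411846118441104411844118441104611044118441104611044110441)) (st := (nat_lit 0x3303503703903b03d03f04104304504704904b04d04f05105305505705905b05d05f93e03002e02c02a0280268b22f92fb2fd2ff3018ce42041e41c41a41841641441241040e40c40a21821621421221020e0dc0da00e00c00a008006004002)) (by decide +kernel) (by decide +kernel)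

theorem ta_mem26 {G : Type*} [Group G] {γ : ℕ → G} (hL : Lab γ tcI) (hr : ∀ t ∈ tcR, t.ev γ = 1) {K : Subgroup G}
    (hK : ∀ t ∈ ([] : List W), t.ev γ ∈ K) :
    W.ev γ (.mul (.mul (.mul (.mul (.mul (.mul (.mul (.mul (.mul (.mul (.mul (.mul (.mul (.mul (.mul (.mul (.mul (.mul (.mul (.mul (.mul (.mul (.mul (.mul (.mul (.mul (.pow (.mul (.l 1) (.l 2)) 4) (.l 1)) (.inv (.l 2))) (.pow (.mul (.l 1) (.l 2)) 2)) (.l 1)) (.inv (.l 2))) (.pow (.mul (.l 1) (.l 2)) 2)) (.pow (.mul (.l 1) (.inv (.l 2))) 4)) (.pow (.mul (.l 1) (.l 2)) 2)) (.l 1)) (.inv (.l 2))) (.pow (.mul (.l 1) (.l 2)) 2)) (.pow (.mul (.l 1) (.inv (.l 2))) 3)) (.pow (.mul (.l 1) (.l 2)) 2)) (.l 1)) (.inv (.l 2))) (.l 1)) (.l 2)) (.l 1)) (.inv (.l 2))) (.l 1)) (.l 2)) (.l 1)) (.inv (.l 2))) (.pow (.mul (.l 1) (.l 2)) 2)) (.l 1)) (.inv (.l 2))) ∈ K :=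
  TC.mem (D := ta) hL (List.forall_mem_cons.2 ⟨hL.zero_mem K, hK⟩) hr ta_head ta_blocks
    (n := (nat_lit 64)) (w := (nat_lit 0x18441104611046110461104411846118441104611044118461184611044118441104611044110441)) (st := (nat_lit 0x3303503703910510710910b10d10f31131331531731931b31d31f32132332532744144344544744944b44d44f45199f43e43c43a43843643443243042e41841641441241040e40c40a21821621421221020e0dc0da00e00c00a008006004002)) (by decide +kernel) (by decide +kernel)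

theorem ta_mem27 {G : Type*} [Group G] {γ : ℕ → G} (hL : Lab γ tcI) (hr : ∀ t ∈ tcR, t.ev γ = 1) {K : Subgroup G}
    (hK : ∀ t ∈ ([] : List W), t.ev γ ∈ K) :
    W.ev γ (.mul (.mul (.mul (.mul (.mul (.mul (.mul (.mul (.mul (.mul (.mul (.mul (.mul (.mul (.mul (.mul (.mul (.mul (.mul (.mul (.mul (.mul (.mul (.mul (.mul (.mul (.mul (.mul (.mul (.mul (.pow (.mul (.l 1) (.l 2)) 4) (.l 1)) (.inv (.l 2))) (.pow (.mul (.l 1) (.l 2)) 2)) (.l 1)) (.inv (.l 2))) (.l 1)) (.l 2)) (.pow (.mul (.l 1) (.inv (.l 2))) 2)) (.l 1)) (.l 2)) (.pow (.mul (.l 1) (.inv (.l 2))) 2)) (.l 1)) (.l 2)) (.pow (.mul (.l 1) (.inv (.l 2))) 3)) (.l 1)) (.l 2)) (.l 1)) (.inv (.l 2))) (.pow (.mul (.l 1) (.l 2)) 2)) (.l 1)) (.inv (.l 2))) (.pow (.mul (.l 1) (.l 2)) 2)) (.l 1)) (.inv (.l 2))) (.l 1)) (.l 2)) (.pow (.mul (.l 1) (.inv (.l 2))) 2)) (.l 1)) (.l 2)) (.pow (.mul (.l 1) (.inv (.l 2))) 2)) ∈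 K :=
  TC.mem (D := ta) hL (List.forall_mem_cons.2 ⟨hL.zero_mem K, hK⟩) hr ta_head ta_blocks
    (n := (nat_lit 64)) (w := (nat_lit 0x18461104611844118441104611044118441184611844118461104611844118441104611044110441)) (st := (nat_lit 0x3303508908b08d08f0910931d71d91db1dd1df1e11e31e51e71e91eb1ed3453473498c036636446f47147347547792646c46a46846646446246045e45c45a45845645441040e40c40a21821621421221020e0dc0da00e00c00a008006004002)) (by decide +kernel) (by decide +kernel)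

theorem ta_mem28 {G : Type*} [Group G] {γ : ℕ → G} (hL : Lab γ tcI) (hr : ∀ t ∈ tcR, t.ev γ = 1) {K : Subgroup G}
    (hK : ∀ t ∈ ([] : List W), t.ev γ ∈ K) :
    W.ev γ (.mul (.mul (.mul (.mul (.mul (.mul (.mul (.mul (.mul (.mul (.mul (.mul (.mul (.mul (.mul (.mul (.mul (.mul (.mul (.mul (.mul (.mul (.mul (.mul (.mul (.mul (.mul (.mul (.mul (.pow (.mul (.l 1) (.l 2)) 4) (.l 1)) (.inv (.l 2))) (.l 1)) (.l 2)) (.pow (.mul (.l 1) (.inv (.l 2))) 2)) (.l 1)) (.l 2)) (.pow (.mul (.l 1) (.inv (.l 2))) 2)) (.l 1)) (.l 2)) (.pow (.mul (.l 1) (.inv (.l 2))) 2)) (.pow (.mul (.l 1) (.l 2)) 2)) (.pow (.mul (.l 1) (.inv (.l 2))) 2)) (.l 1)) (.l 2)) (.l 1)) (.inv (.l 2))) (.pow (.mul (.l 1) (.l 2)) 2)) (.l 1)) (.inv (.l 2))) (.pow (.mul (.l 1) (.l 2)) 2)) (.l 1)) (.inv (.l 2))) (.l 1)) (.l 2)) (.pow (.mul (.l 1) (.inv (.l 2))) 2)) (.l 1)) (.l 2)) (.pow (.mul (.l 1) (.inv (.l 2)))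 2)) ∈ K :=
  TC.mem (D := ta) hL (List.forall_mem_cons.2 ⟨hL.zero_mem K, hK⟩) hr ta_head ta_blocks
    (n := (nat_lit 64)) (w := (nat_lit 0x18461104611844118441104611044118441184611044118461104611844118461104611044110441)) (st := (nat_lit 0x3303508908b08d08f0910931d71d91db1dd1df1e11e31e51e71e91eb1ed3453473498c036636446f4714734754779268de49c49a49849649449249048e48c48a48848648448248047e47c47a21421221020e0dc0da00e00c00a008006004002)) (by decide +kernel) (by decide +kernel)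

theorem ta_mem29 {G : Type*} [Group G] {γ : ℕ → G} (hL : Lab γ tcI) (hr : ∀ t ∈ tcR, t.ev γ = 1) {K : Subgroup G}
    (hK : ∀ t ∈ ([] : List W), t.ev γ ∈ K) :
    W.ev γ (.mul (.mul (.mul (.mul (.mul (.mul (.mul (.mul (.mul (.mul (.mul (.mul (.mul (.mul (.mul (.mul (.mul (.mul (.mul (.mul (.mul (.mul (.mul (.mul (.mul (.pow (.mul (.l 1) (.l 2)) 4) (.l 1)) (.inv (.l 2))) (.l 1)) (.l 2)) (.pow (.mul (.l 1) (.inv (.l 2))) 2)) (.l 1)) (.l 2)) (.pow (.mul (.l 1) (.inv (.l 2))) 2)) (.l 1)) (.l 2)) (.pow (.mul (.l 1) (.inv (.l 2))) 2)) (.pow (.mul (.l 1) (.l 2)) 2)) (.pow (.mul (.l 1) (.inv (.l 2))) 4)) (.pow (.mul (.l 1) (.l 2)) 2)) (.l 1)) (.inv (.l 2))) (.pow (.mul (.l 1) (.l 2)) 2)) (.l 1)) (.inv (.l 2))) (.pow (.mul (.l 1) (.l 2)) 2)) (.l 1)) (.inv (.l 2))) (.l 1)) (.l 2)) (.pow (.mul (.l 1) (.inv (.l 2))) 2)) ∈ K :=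
  TC.mem (D := ta) hL (List.forall_mem_cons.2 ⟨hL.zero_mem K, hK⟩) hr ta_head ta_blocks
    (n := (nat_lit 64)) (w := (nat_lit 0x18461104611044118441104611044118461184611044118461104611844118461104611044110441)) (st := (nat_lit 0x3303508908b08d08f09109309509709909b09d09f34b34d34f35135335535735935b35d35f3618d94714734754779268de49c49a49849649449249048e48c48a48848648448248047e47c47a21421221020e0dc0da00e00c00a008006004002)) (by decide +kernel) (by decide +kernel)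

theorem ta_mem30 {G : Type*} [Group G] {γ : ℕ → G} (hL : Lab γ tcI) (hr : ∀ t ∈ tcR, t.ev γ = 1) {K : Subgroup G}
    (hK : ∀ t ∈ ([] : List W), t.ev γ ∈ K) :
    W.ev γ (.mul (.mul (.mul (.mul (.mul (.mul (.mul (.mul (.mul (.mul (.mul (.mul (.mul (.mul (.mul (.mul (.mul (.mul (.mul (.mul (.mul (.mul (.mul (.mul (.mul (.pow (.mul (.l 1) (.l 2)) 4) (.l 1)) (.inv (.l 2))) (.l 1)) (.l 2)) (.pow (.mul (.l 1) (.inv (.l 2))) 2)) (.l 1)) (.l 2)) (.pow (.mul (.l 1) (.inv (.l 2))) 2)) (.l 1)) (.l 2)) (.pow (.mul (.l 1) (.inv (.l 2))) 2)) (.pow (.mul (.l 1) (.l 2)) 2)) (.pow (.mul (.l 1) (.inv (.l 2))) 4)) (.l 1)) (.l 2)) (.pow (.mul (.l 1) (.inv (.l 2))) 2)) (.pow (.mul (.l 1) (.l 2)) 2)) (.l 1)) (.inv (.l 2))) (.pow (.mul (.l 1) (.l 2)) 2)) (.l 1)) (.inv (.l 2))) (.pow (.mul (.l 1) (.l 2)) 2)) (.l 1)) (.inv (.l 2))) ∈ K :=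
  TC.mem (D := ta) hL (List.forall_mem_cons.2 ⟨hL.zero_mem K, hK⟩) hr ta_head ta_blocks
    (n := (nat_lit 64)) (w := (nat_lit 0x18441104611044118441104611844118461184611044118461104611844118461104611044110441)) (st := (nat_lit 0x3303503703910510710910b10d10f11111311511749f4a14a34a54a74a98e335935b35d35f3618d94714734754779268de49c49a49849649449249048e48c48a48848648448248047e47c47a21421221020e0dc0da00e00c00a008006004002)) (by decide +kernel) (by decide +kernel)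

theorem ta_mem31 {G : Type*} [Group G] {γ : ℕ → G} (hL : Lab γ tcI) (hr : ∀ t ∈ tcR, t.ev γ = 1) {K : Subgroup G}
    (hK : ∀ t ∈ ([] : List W), t.ev γ ∈ K) :
    W.ev γ (.mul (.mul (.mul (.mul (.mul (.mul (.mul (.mul (.mul (.mul (.mul (.mul (.mul (.mul (.mul (.mul (.mul (.mul (.mul (.mul (.mul (.mul (.mul (.mul (.pow (.mul (.l 1) (.l 2)) 4) (.pow (.mul (.l 1) (.inv (.l 2))) 2)) (.l 1)) (.l 2)) (.pow (.mul (.l 1) (.inv (.l 2))) 2)) (.pow (.mul (.l 1) (.l 2)) 2)) (.l 1)) (.inv (.l 2))) (.pow (.mul (.l 1) (.l 2)) 2)) (.l 1)) (.inv (.l 2))) (.pow (.mul (.l 1) (.l 2)) 2)) (.pow (.mul (.l 1) (.inv (.l 2))) 3)) (.pow (.mul (.l 1) (.l 2)) 2)) (.l 1)) (.inv (.l 2))) (.l 1)) (.l 2)) (.pow (.mul (.l 1) (.inv (.l 2))) 2)) (.l 1)) (.l 2)) (.pow (.mul (.l 1) (.inv (.l 2))) 2)) (.l 1)) (.l 2)) (.pow (.mul (.l 1) (.inv (.l 2))) 2)) ∈ K :=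
  TC.mem (D := ta) hL (List.forall_mem_cons.2 ⟨hL.zero_mem K, hK⟩) hr ta_head ta_blocks
    (n := (nat_lit 64)) (w := (nat_lit 0x18461104611844118461104611044118461184411046110441184411046118441184611044110441)) (st := (nat_lit 0x3303508908b08d08f0910931d71d91db1dd1df1e18ba34234033e33c33a33807407207006e06c8630b78791cf2ab2ad2af8a72a82a62a42a22a029e29c29a29829629429229028e28c27227026e26c21020e0dc0da00e00c00a008006004002)) (by decide +kernel) (by decide +kernel)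

theorem ta_mem32 {G : Type*} [Group G] {γ : ℕ → G} (hL : Lab γ tcI) (hr : ∀ t ∈ tcR, t.ev γ = 1) {K : Subgroup G}
    (hK : ∀ t ∈ ([] : List W), t.ev γ ∈ K) :
    W.ev γ (.mul (.mul (.mul (.mul (.mul (.mul (.mul (.mul (.mul (.mul (.mul (.mul (.mul (.mul (.mul (.mul (.mul (.mul (.mul (.mul (.mul (.mul (.mul (.mul (.pow (.mul (.l 1) (.l 2)) 4) (.pow (.mul (.l 1) (.inv (.l 2))) 2)) (.l 1)) (.l 2)) (.pow (.mul (.l 1) (.inv (.l 2))) 2)) (.pow (.mul (.l 1) (.l 2)) 2)) (.l 1)) (.inv (.l 2))) (.pow (.mul (.l 1) (.l 2)) 2)) (.l 1)) (.inv (.l 2))) (.pow (.mul (.l 1) (.l 2)) 2)) (.pow (.mul (.l 1) (.inv (.l 2))) 3)) (.l 1)) (.l 2)) (.pow (.mul (.l 1) (.inv (.l 2))) 2)) (.l 1)) (.l 2)) (.pow (.mul (.l 1) (.inv (.l 2))) 2)) (.l 1)) (.l 2)) (.pow (.mul (.l 1) (.inv (.l 2))) 2)) (.pow (.mul (.l 1) (.l 2)) 2)) (.l 1)) (.inv (.l 2))) ∈ K :=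
  TC.mem (D := ta) hL (List.forall_mem_cons.2 ⟨hL.zero_mem K, hK⟩) hr ta_head ta_blocks
    (n := (nat_lit 64)) (w := (nat_lit 0x18441104611844118461104611844118461184411046110441184411046118441184611044110441)) (st := (nat_lit 0x3303503703910510710910b20320520720920b20d88508007e07c07a07807607407207006e06c8630b78791cf2ab2ad2af8a72a82a62a42a22a029e29c29a29829629429229028e28c27227026e26c21020e0dc0da00e00c00a008006004002)) (by decide +kernel) (by decide +kernel)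

theorem ta_mem33 {G : Type*} [Group G] {γ : ℕ → G} (hL : Lab γ tcI) (hr : ∀ t ∈ tcR, t.ev γ = 1) {K : Subgroup G}
    (hK : ∀ t ∈ ([] : List W), t.ev γ ∈ K) :
    W.ev γ (.mul (.mul (.mul (.mul (.mul (.mul (.mul (.mul (.mul (.mul (.mul (.mul (.mul (.mul (.mul (.mul (.mul (.mul (.mul (.mul (.mul (.mul (.mul (.mul (.pow (.mul (.l 1) (.l 2)) 4) (.pow (.mul (.l 1) (.inv (.l 2))) 2)) (.l 1)) (.l 2)) (.pow (.mul (.l 1) (.inv (.l 2))) 2)) (.l 1)) (.l 2)) (.pow (.mul (.l 1) (.inv (.l 2))) 2)) (.pow (.mul (.l 1) (.l 2)) 2)) (.pow (.mul (.l 1) (.inv (.l 2))) 2)) (.l 1)) (.l 2)) (.l 1)) (.inv (.l 2))) (.l 1)) (.l 2)) (.pow (.mul (.l 1) (.inv (.l 2))) 2)) (.l 1)) (.l 2)) (.l 1)) (.inv (.l 2))) (.pow (.mul (.l 1) (.l 2)) 3)) (.pow (.mul (.l 1) (.inv (.l 2))) 2)) (.pow (.mul (.l 1) (.l 2)) 2)) (.pow (.mul (.l 1) (.inv (.l 2))) 2)) ∈ K :=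
  TC.mem (D := ta) hL (List.forall_mem_cons.2 ⟨hL.zero_mem K, hK⟩) hr ta_head ta_blocks
    (n := (nat_lit 64)) (w := (nat_lit 0x18461104411846110441104611046118441184411846110441184611046118441184611044110441)) (st := (nat_lit 0x3303508908b08d08f15115315515715915b15d15f1611633bf3c13c33c53c73c93cb3cd3cf3d13d33d53d73d93db9833bc3ba3b83b68ea4b44b24b04ae4ac4aa29629429229028e28c27227026e26c21020e0dc0da00e00c00a008006004002)) (by decide +kernel) (by decide +kernel)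

theorem ta_mem34 {G : Type*} [Group G] {γ : ℕ → G} (hL : Lab γ tcI) (hr : ∀ t ∈ tcR, t.ev γ = 1) {K : Subgroup G}
    (hK : ∀ t ∈ ([] : List W), t.ev γ ∈ K) :
    W.ev γ (.mul (.mul (.mul (.mul (.mul (.mul (.mul (.mul (.mul (.mul (.mul (.mul (.mul (.mul (.mul (.mul (.mul (.mul (.mul (.mul (.mul (.mul (.mul (.mul (.mul (.mul (.mul (.mul (.mul (.mul (.mul (.mul (.mul (.mul (.mul (.mul (.pow (.mul (.l 1) (.l 2)) 3) (.l 1)) (.inv (.l 2))) (.pow (.mul (.l 1) (.l 2)) 3)) (.pow (.mul (.l 1) (.inv (.l 2))) 3)) (.l 1)) (.l 2)) (.l 1)) (.inv (.l 2))) (.pow (.mul (.l 1) (.l 2)) 2)) (.l 1)) (.inv (.l 2))) (.l 1)) (.l 2)) (.l 1)) (.inv (.l 2))) (.pow (.mul (.l 1) (.l 2)) 2)) (.l 1)) (.inv (.l 2))) (.l 1)) (.l 2)) (.l 1)) (.inv (.l 2))) (.l 1)) (.l 2)) (.pow (.mul (.l 1) (.inv (.l 2))) 2)) (.l 1)) (.l 2)) (.l 1)) (.inv (.l 2))) (.l 1)) (.l 2)) (.l 1)) (.inv (.l 2))) (.l 1)) (.l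 2)) (.pow (.mul (.l 1) (.inv (.l 2))) 2)) ∈ K :=
  TC.mem (D := ta) hL (List.forall_mem_cons.2 ⟨hL.zero_mem K, hK⟩) hr ta_head ta_blocks
    (n := (nat_lit 64)) (w := (nat_lit 0x18461104611046110461184411844118441104611046110441184411846118441104411844110441)) (st := (nat_lit 0x3303508908b08d08f0910930950974dd4df4e14e34e54e74e94eb4ed4ef4f14f34f54f74f94fb4fd4ff5015035059bd4da4d84d64d44d24d04ce4cc4ca4c84c64c44c24c04be4bc4ba4b84b613012e12c12a01201000e00c00a008006004002)) (by decide +kernel) (by decide +kernel)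

theorem ta_mem35 {G : Type*} [Group G] {γ : ℕ → G} (hL : Lab γ tcI) (hr : ∀ t ∈ tcR, t.ev γ = 1) {K : Subgroup G}
    (hK : ∀ t ∈ ([] : List W), t.ev γ ∈ K) :
    W.ev γ (.mul (.mul (.mul (.mul (.mul (.mul (.mul (.mul (.mul (.mul (.mul (.mul (.mul (.mul (.mul (.mul (.mul (.mul (.mul (.mul (.mul (.mul (.mul (.mul (.mul (.mul (.mul (.mul (.mul (.mul (.mul (.mul (.mul (.mul (.mul (.pow (.mul (.l 1) (.l 2)) 3) (.l 1)) (.inv (.l 2))) (.pow (.mul (.l 1) (.l 2)) 2)) (.l 1)) (.inv (.l 2))) (.pow (.mul (.l 1) (.l 2)) 2)) (.l 1)) (.inv (.l 2))) (.pow (.mul (.l 1) (.l 2)) 2)) (.l 1)) (.inv (.l 2))) (.l 1)) (.l 2)) (.l 1)) (.inv (.l 2))) (.l 1)) (.l 2)) (.l 1)) (.inv (.l 2))) (.l 1)) (.l 2)) (.l 1)) (.inv (.l 2))) (.pow (.mul (.l 1) (.l 2)) 2)) (.l 1)) (.inv (.l 2))) (.l 1)) (.l 2)) (.pow (.mul (.l 1) (.inv (.l 2))) 2)) (.l 1)) (.l 2)) (.l 1)) (.inv (.l 2))) (.pow (.mul (.l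 1) (.l 2)) 3)) (.pow (.mul (.l 1) (.inv (.l 2))) 2)) ∈ K :=
  TC.mem (D := ta) hL (List.forall_mem_cons.2 ⟨hL.zero_mem K, hK⟩) hr ta_head ta_blocks
    (n := (nat_lit 64)) (w := (nat_lit 0x18461104411046110461184411844110461104611046110461104411844110461104411844110441)) (st := (nat_lit 0x3303508908b08d08f15115350f51151351551751951b51d51f52152352552752952b52d52f5315335355375398f117317517717990c14e14c14a14814614414214013e13c13a13813613413213012e12c12a01201000e00c00a008006004002)) (by decide +kernel) (by decide +kernel)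

theorem ta_mem36 {G : Type*} [Group G] {γ : ℕ → G} (hL : Lab γ tcI) (hr : ∀ t ∈ tcR, t.ev γ = 1) {K : Subgroup G}
    (hK : ∀ t ∈ ([] : List W), t.ev γ ∈ K) :
    W.ev γ (.mul (.mul (.mul (.mul (.mul (.mul (.mul (.mul (.mul (.mul (.mul (.mul (.mul (.mul (.mul (.mul (.mul (.mul (.mul (.mul (.mul (.mul (.mul (.mul (.mul (.mul (.mul (.mul (.mul (.mul (.pow (.mul (.l 1) (.l 2)) 3) (.l 1)) (.inv (.l 2))) (.l 1)) (.l 2)) (.l 1)) (.inv (.l 2))) (.pow (.mul (.l 1) (.l 2)) 2)) (.l 1)) (.inv (.l 2))) (.l 1)) (.l 2)) (.pow (.mul (.l 1) (.inv (.l 2))) 2)) (.l 1)) (.l 2)) (.l 1)) (.inv (.l 2))) (.pow (.mul (.l 1) (.l 2)) 3)) (.pow (.mul (.l 1) (.inv (.l 2))) 2)) (.pow (.mul (.l 1) (.l 2)) 3)) (.l 1)) (.inv (.l 2))) (.l 1)) (.l 2)) (.pow (.mul (.l 1) (.inv (.l 2))) 2)) (.pow (.mul (.l 1) (.l 2)) 2)) (.l 1)) (.inv (.l 2))) (.pow (.mul (.l 1) (.l 2)) 2)) (.l 1)) (.inv (.l 2))) ∈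 K :=
  TC.mem (D := ta) hL (List.forall_mem_cons.2 ⟨hL.zero_mem K, hK⟩) hr ta_head ta_blocks
    (n := (nat_lit 64)) (w := (nat_lit 0x18441104611044118461104611044110461184411044118441184611046110441184411844110441)) (st := (nat_lit 0x3303503703910510710910b10d10f11111311511711911b11d11f12112386a0c30c50c712512712986f1021000fe0fc0fa0f88f455c55a55855655455255054e54c54a54854654454254053e53c53a12c12a01201000e00c00a008006004002)) (by decide +kernel) (by decide +kernel)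

theorem ta_mem37 {G : Type*} [Group G] {γ : ℕ → G} (hL : Lab γ tcI) (hr : ∀ t ∈ tcR, t.ev γ = 1) {K : Subgroup G}
    (hK : ∀ t ∈ ([] : List W), t.ev γ ∈ K) :
    W.ev γ (.mul (.mul (.mul (.mul (.mul (.mul (.mul (.mul (.mul (.mul (.mul (.mul (.mul (.mul (.mul (.mul (.mul (.mul (.mul (.mul (.mul (.mul (.mul (.pow (.mul (.l 1) (.l 2)) 3) (.l 1)) (.inv (.l 2))) (.l 1)) (.l 2)) (.pow (.mul (.l 1) (.inv (.l 2))) 2)) (.l 1)) (.l 2)) (.pow (.mul (.l 1) (.inv (.l 2))) 2)) (.pow (.mul (.l 1) (.l 2)) 2)) (.l 1)) (.inv (.l 2))) (.pow (.mul (.l 1) (.l 2)) 2)) (.l 1)) (.inv (.l 2))) (.l 1)) (.l 2)) (.pow (.mul (.l 1) (.inv (.l 2))) 3)) (.pow (.mul (.l 1) (.l 2)) 2)) (.pow (.mul (.l 1) (.inv (.l 2))) 2)) (.pow (.mul (.l 1) (.l 2)) 2)) (.pow (.mul (.l 1) (.inv (.l 2))) 2)) (.pow (.mul (.l 1) (.l 2)) 2)) (.pow (.mul (.l 1) (.inv (.l 2))) 2)) ∈ K :=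
  TC.mem (D := ta) hL (List.forall_mem_cons.2 ⟨hL.zero_mem K, hK⟩) hr ta_head ta_blocks
    (n := (nat_lit 64)) (w := (nat_lit 0x18461104411846110441184611044118461184411844110461104411846110461184411844110441)) (st := (nat_lit 0x3303508908b08d08f15115315515715915b15d15f16116316516716916b16d16f17117358558758958b58d58f59191258258057e57c57a57857657457257056e56c56a56856656456256055e53c53a12c12a01201000e00c00a008006004002)) (by decide +kernel) (by decide +kernel)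

theorem ta_mem38 {G : Type*} [Group G] {γ : ℕ → G} (hL : Lab γ tcI) (hr : ∀ t ∈ tcR, t.ev γ = 1) {K : Subgroup G}
    (hK : ∀ t ∈ ([] : List W), t.ev γ ∈ K) :
    W.ev γ (.mul (.mul (.mul (.mul (.mul (.mul (.mul (.mul (.mul (.mul (.mul (.mul (.mul (.mul (.mul (.mul (.mul (.mul (.mul (.pow (.mul (.l 1) (.l 2)) 3) (.pow (.mul (.l 1) (.inv (.l 2))) 2)) (.pow (.mul (.l 1) (.l 2)) 2)) (.l 1)) (.inv (.l 2))) (.pow (.mul (.l 1) (.l 2)) 2)) (.pow (.mul (.l 1) (.inv (.l 2))) 3)) (.pow (.mul (.l 1) (.l 2)) 2)) (.l 1)) (.inv (.l 2))) (.pow (.mul (.l 1) (.l 2)) 3)) (.pow (.mul (.l 1) (.inv (.l 2))) 2)) (.pow (.mul (.l 1) (.l 2)) 2)) (.l 1)) (.inv (.l 2))) (.pow (.mul (.l 1) (.l 2)) 2)) (.pow (.mul (.l 1) (.inv (.l 2))) 3)) (.pow (.mul (.l 1) (.l 2)) 2)) (.l 1)) (.inv (.l 2))) ∈ K :=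
  TC.mem (D := ta) hL (List.forall_mem_cons.2 ⟨hL.zero_mem K, hK⟩) hr ta_head ta_blocks
    (n := (nat_lit 64)) (w := (nat_lit 0x18441104611846110441184411046118441104411844110461184611044118441104611844110441)) (st := (nat_lit 0x3303503703910510710910b20320559959b59d59f5a15a35a55a75a95ab5ad5af5b15b35b55b75b95bb8fa32f33133333599230e30c30a3083063043023002fe2fc2fa2f82f602202001e01c01a01801601401201000e00c00a008006004002)) (by decide +kernel) (by decide +kernel)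

theorem ta_mem39 {G : Type*} [Group G] {γ : ℕ → G} (hL : Lab γ tcI) (hr : ∀ t ∈ tcR, t.ev γ = 1) {K : Subgroup G}
    (hK : ∀ t ∈ ([] : List W), t.ev γ ∈ K) :
    W.ev γ (.mul (.mul (.mul (.mul (.mul (.mul (.mul (.mul (.mul (.mul (.mul (.mul (.mul (.mul (.mul (.mul (.mul (.mul (.mul (.mul (.mul (.mul (.mul (.mul (.mul (.mul (.mul (.mul (.mul (.mul (.mul (.mul (.mul (.mul (.mul (.mul (.mul (.mul (.mul (.mul (.mul (.pow (.mul (.l 1) (.l 2)) 3) (.pow (.mul (.l 1) (.inv (.l 2))) 2)) (.l 1)) (.l 2)) (.pow (.mul (.l 1) (.inv (.l 2))) 2)) (.pow (.mul (.l 1) (.l 2)) 2)) (.l 1)) (.inv (.l 2))) (.pow (.mul (.l 1) (.l 2)) 2)) (.pow (.mul (.l 1) (.inv (.l 2))) 3)) (.l 1)) (.l 2)) (.l 1)) (.inv (.l 2))) (.l 1)) (.l 2)) (.l 1)) (.inv (.l 2))) (.l 1)) (.l 2)) (.l 1)) (.inv (.l 2))) (.l 1)) (.l 2)) (.l 1)) (.inv (.l 2))) (.l 1)) (.l 2)) (.l 1)) (.inv (.l 2))) (.l 1)) (.l 2)) (.l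 1)) (.inv (.l 2))) (.l 1)) (.l 2)) (.l 1)) (.inv (.l 2))) (.l 1)) (.l 2)) (.l 1)) (.inv (.l 2))) ∈ K :=
  TC.mem (D := ta) hL (List.forall_mem_cons.2 ⟨hL.zero_mem K, hK⟩) hr ta_head ta_blocks
    (n := (nat_lit 64)) (w := (nat_lit 0x18441184411844118441184411844118441184411846118441104611044118461104611844110441)) (st := (nat_lit 0x3303503703903b03d2d32d55e35e55e75e95eb5ed5ef5f15f35f55f75f95fb5fd5ff60160360560760960b60d60f91c5e05de5dc5da5d85d65d45d25d05ce5cc5ca5c85c65c45c25c05be5bc01a01801601401201000e00c00a008006004002)) (by decide +kernel) (by decide +kernel)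

theorem ta_mem40 {G : Type*} [Group G] {γ : ℕ → G} (hL : Lab γ tcI) (hr : ∀ t ∈ tcR, t.ev γ = 1) {K : Subgroup G}
    (hK : ∀ t ∈ ([] : List W), t.ev γ ∈ K) :
    W.ev γ (.mul (.mul (.mul (.mul (.mul (.mul (.mul (.mul (.mul (.mul (.mul (.mul (.mul (.mul (.mul (.mul (.mul (.mul (.mul (.mul (.mul (.mul (.mul (.mul (.mul (.mul (.mul (.mul (.pow (.mul (.l 1) (.l 2)) 3) (.pow (.mul (.l 1) (.inv (.l 2))) 2)) (.l 1)) (.l 2)) (.pow (.mul (.l 1) (.inv (.l 2))) 2)) (.l 1)) (.l 2)) (.pow (.mul (.l 1) (.inv (.l 2))) 2)) (.pow (.mul (.l 1) (.l 2)) 2)) (.l 1)) (.inv (.l 2))) (.pow (.mul (.l 1) (.l 2)) 2)) (.pow (.mul (.l 1) (.inv (.l 2))) 2)) (.l 1)) (.l 2)) (.l 1)) (.inv (.l 2))) (.pow (.mul (.l 1) (.l 2)) 2)) (.l 1)) (.inv (.l 2))) (.pow (.mul (.l 1) (.l 2)) 2)) (.l 1)) (.inv (.l 2))) (.l 1)) (.l 2)) (.pow (.mul (.l 1) (.inv (.l 2))) 2)) (.l 1)) (.l 2)) (.pow (.mul (.l 1) (.inv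 (.l 2))) 2)) ∈ K :=
  TC.mem (D := ta) hL (List.forall_mem_cons.2 ⟨hL.zero_mem K, hK⟩) hr ta_head ta_blocks
    (n := (nat_lit 64)) (w := (nat_lit 0x18461104611844118441104611044118441184611044118441104611844118461104611844110441)) (st := (nat_lit 0x3303508908b08d08f0910931d71d91db1dd1df1e11e31e51e71e91eb1ed3453473498c036636446f4714734754779268de49c49a4984964948fe61c61a6186166146125c65c45c25c05be5bc01a01801601401201000e00c00a008006004002)) (by decide +kernel) (by decide +kernel)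

theorem ta_mem41 {G : Type*} [Group G] {γ : ℕ → G} (hL : Lab γ tcI) (hr : ∀ t ∈ tcR, t.ev γ = 1) {K : Subgroup G}
    (hK : ∀ t ∈ ([] : List W), t.ev γ ∈ K) :
    W.ev γ (.mul (.mul (.mul (.mul (.mul (.mul (.mul (.mul (.mul (.mul (.mul (.pow (.mul (.l 1) (.l 2)) 2) (.l 1)) (.inv (.l 2))) (.pow (.mul (.l 1) (.l 2)) 2)) (.l 1)) (.inv (.l 2))) (.pow (.mul (.l 1) (.l 2)) 2)) (.l 1)) (.inv (.l 2))) (.l 1)) (.inv (.mul (.mul (.mul (.mul (.mul (.mul (.mul (.mul (.pow (.mul (.l 1) (.l 2)) 2) (.l 1)) (.inv (.l 2))) (.pow (.mul (.l 1) (.l 2)) 2)) (.l 1)) (.inv (.l 2))) (.pow (.mul (.l 1) (.l 2)) 2)) (.l 1)) (.inv (.l 2))))) (.l 1)) ∈ K :=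
  TC.mem (D := ta) hL (List.forall_mem_cons.2 ⟨hL.zero_mem K, hK⟩) hr ta_head ta_blocks
    (n := (nat_lit 36)) (w := (nat_lit 0x184611046118441184611046110441184411046110441)) (st := (nat_lit 0x3303508908b08d08f0910931d71d91db1dd1df1e18ba34234033e33c33a33807407207006e06c06a06806606406200a008006004002)) (by decide +kernel) (by decide +kernel)

theorem ta_mem42 {G : Type*} [Group G] {γ : ℕ → G} (hL : Lab γ tcI) (hr : ∀ t ∈ tcR, t.ev γ = 1) {K : Subgroup G}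
    (hK : ∀ t ∈ ([] : List W), t.ev γ ∈ K) :
    W.ev γ (.mul (.mul (.mul (.mul (.mul (.mul (.mul (.pow (.mul (.l 1) (.l 2)) 2) (.pow (.mul (.l 1) (.inv (.l 2))) 2)) (.pow (.mul (.l 1) (.l 2)) 2)) (.pow (.mul (.l 1) (.inv (.l 2))) 2)) (.pow (.mul (.l 1) (.l 2)) 2)) (.l 1)) (.inv (.mul (.mul (.mul (.mul (.pow (.mul (.l 1) (.l 2)) 2) (.pow (.mul (.l 1) (.inv (.l 2))) 2)) (.pow (.mul (.l 1) (.l 2)) 2)) (.pow (.mul (.l 1) (.inv (.l 2))) 2)) (.pow (.mul (.l 1) (.l 2)) 2)))) (.l 1)) ∈ K :=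
  TC.mem (D := ta) hL (List.forall_mem_cons.2 ⟨hL.zero_mem K, hK⟩) hr ta_head ta_blocks
    (n := (nat_lit 40)) (w := (nat_lit 0x18461104411846110441184611044118461104411846110441)) (st := (nat_lit 0x3303508908b08d08f15115315515715915b15d15f16116316516716916b16d16f17117358558758958b90262462262061e06406200a008006004002)) (by decide +kernel) (by decide +kernel)

theorem ta_mem43 {G : Type*} [Group G] {γ : ℕ → G} (hL : Lab γ tcI) (hr : ∀ t ∈ tcR, t.ev γ = 1) {K : Subgroup G}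
    (hK : ∀ t ∈ ([] : List W), t.ev γ ∈ K) :
    W.ev γ (.mul (.mul (.mul (.mul (.mul (.mul (.mul (.mul (.mul (.mul (.mul (.mul (.mul (.mul (.pow (.mul (.l 1) (.l 2)) 2) (.l 1)) (.inv (.l 2))) (.l 1)) (.l 2)) (.pow (.mul (.l 1) (.inv (.l 2))) 2)) (.pow (.mul (.l 1) (.l 2)) 2)) (.l 1)) (.inv (.l 2))) (.l 1)) (.l 2)) (.pow (.mul (.l 1) (.inv (.l 2))) 2)) (.l 1)) (.inv (.mul (.mul (.mul (.mul (.mul (.mul (.mul (.mul (.mul (.mul (.mul (.pow (.mul (.l 1) (.l 2)) 2) (.l 1)) (.inv (.l 2))) (.l 1)) (.l 2)) (.pow (.mul (.l 1) (.inv (.l 2))) 2)) (.pow (.mul (.l 1) (.l 2)) 2)) (.l 1)) (.inv (.l 2))) (.l 1)) (.l 2)) (.pow (.mul (.l 1) (.inv (.l 2))) 2)))) (.l 1)) ∈ K :=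
  TC.mem (D := ta) hL (List.forall_mem_cons.2 ⟨hL.zero_mem K, hK⟩) hr ta_head ta_blocks
    (n := (nat_lit 48)) (w := (nat_lit 0x184611046110441184611046110441184611046110441184611046110441)) (st := (nat_lit 0x3303508908b08d08f09109309509709909b09d09f0a10a30a50a70a90ab0d30d50d789a0d00ce0cc0ca0c80c60c40c20c00be0bc0ba0b80b60b406806606406200a008006004002)) (by decide +kernel) (by decide +kernel)

theorem ta_mem44 {G : Type*} [Group G] {γ : ℕ → G} (hL : Lab γ tcI) (hr : ∀ t ∈ tcR, t.ev γ = 1) {K : Subgroup G}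
    (hK : ∀ t ∈ ([] : List W), t.ev γ ∈ K) :
    W.ev γ (.mul (.mul (.mul (.mul (.mul (.mul (.mul (.mul (.mul (.mul (.mul (.mul (.mul (.mul (.pow (.mul (.l 1) (.l 2)) 2) (.l 1)) (.inv (.l 2))) (.l 1)) (.l 2)) (.pow (.mul (.l 1) (.inv (.l 2))) 2)) (.l 1)) (.l 2)) (.pow (.mul (.l 1) (.inv (.l 2))) 2)) (.pow (.mul (.l 1) (.l 2)) 2)) (.l 1)) (.inv (.l 2))) (.l 1)) (.inv (.mul (.mul (.mul (.mul (.mul (.mul (.mul (.mul (.mul (.mul (.mul (.pow (.mul (.l 1) (.l 2)) 2) (.l 1)) (.inv (.l 2))) (.l 1)) (.l 2)) (.pow (.mul (.l 1) (.inv (.l 2))) 2)) (.l 1)) (.l 2)) (.pow (.mul (.l 1) (.inv (.l 2))) 2)) (.pow (.mul (.l 1) (.l 2)) 2)) (.l 1)) (.inv (.l 2))))) (.l 1)) ∈ K :=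
  TC.mem (D := ta) hL (List.forall_mem_cons.2 ⟨hL.zero_mem K, hK⟩) hr ta_head ta_blocks
    (n := (nat_lit 48)) (w := (nat_lit 0x184611046110441184411046118441184411046118441184611046110441)) (st := (nat_lit 0x3303508908b08d08f09109309509709909b09d09f34b34d34f3513533558e44a84a64a44a24a08e011b11d11f1211238690be0bc0ba0b80b60b406806606406200a008006004002)) (by decide +kernel) (by decide +kernel)

theorem ta_mem45 {G : Type*} [Group G] {γ : ℕ → G} (hL : Lab γ tcI) (hr : ∀ t ∈ tcR, t.ev γ = 1) {K : Subgroup G}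
    (hK : ∀ t ∈ ([] : List W), t.ev γ ∈ K) :
    W.ev γ (.mul (.mul (.mul (.mul (.mul (.mul (.mul (.mul (.mul (.mul (.mul (.mul (.mul (.mul (.mul (.mul (.mul (.mul (.mul (.mul (.mul (.mul (.mul (.mul (.mul (.mul (.l 1) (.l 2)) (.l 1)) (.inv (.l 2))) (.l 1)) (.l 2)) (.l 1)) (.inv (.l 2))) (.l 1)) (.l 2)) (.l 1)) (.inv (.l 2))) (.l 1)) (.l 2)) (.l 1)) (.inv (.l 2))) (.l 1)) (.l 2)) (.l 1)) (.inv (.l 2))) (.l 1)) (.l 2)) (.l 1)) (.inv (.l 2))) (.l 1)) (.inv (.mul (.mul (.mul (.mul (.mul (.mul (.mul (.mul (.mul (.mul (.mul (.mul (.mul (.mul (.mul (.mul (.mul (.mul (.mul (.mul (.mul (.mul (.mul (.l 1) (.l 2)) (.l 1)) (.inv (.l 2))) (.l 1)) (.l 2)) (.l 1)) (.inv (.l 2))) (.l 1)) (.l 2)) (.l 1)) (.inv (.l 2))) (.l 1)) (.l 2)) (.l 1)) (.inv (.l 2))) (.l 1)) (.l 2)) (.l 1)) (.inv (.l 2))) (.l 1)) (.l 2)) (.l 1)) (.inv (.l 2))))) (.l 1)) ∈ K :=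
  TC.mem (D := ta) hL (List.forall_mem_cons.2 ⟨hL.zero_mem K, hK⟩) hr ta_head ta_blocks
    (n := (nat_lit 48)) (w := (nat_lit 0x184411844118441184411844118441184411844118441184411844118441)) (st := (nat_lit 0x3303503703903b03d2d32d55e35e55e75e95eb5ed5ef5f15f35f55f75f95fb5fd5ff60160360560760960b60d60f91c5e05de91863863663463263062e62c62a628626006004002)) (by decide +kernel) (by decide +kernel)

theorem ta_mem46 {G : Type*} [Group G] {γ : ℕ → G} (hL : Lab γ tcI) (hr : ∀ t ∈ tcR, t.ev γ = 1) {K : Subgroup G}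
    (hK : ∀ t ∈ ([] : List W), t.ev γ ∈ K) :
    W.ev γ (.mul (.mul (.mul (.mul (.mul (.mul (.mul (.mul (.mul (.mul (.mul (.mul (.mul (.mul (.l 1) (.l 2)) (.pow (.mul (.l 1) (.inv (.l 2))) 2)) (.pow (.mul (.l 1) (.l 2)) 2)) (.l 1)) (.inv (.l 2))) (.l 1)) (.l 2)) (.pow (.mul (.l 1) (.inv (.l 2))) 2)) (.pow (.mul (.l 1) (.l 2)) 2)) (.l 1)) (.inv (.l 2))) (.l 1)) (.inv (.mul (.mul (.mul (.mul (.mul (.mul (.mul (.mul (.mul (.mul (.mul (.l 1) (.l 2)) (.pow (.mul (.l 1) (.inv (.l 2))) 2)) (.pow (.mul (.l 1) (.l 2)) 2)) (.l 1)) (.inv (.l 2))) (.l 1)) (.l 2)) (.pow (.mul (.l 1) (.inv (.l 2))) 2)) (.pow (.mul (.l 1) (.l 2)) 2)) (.l 1)) (.inv (.l 2))))) (.l 1)) ∈ K :=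
  TC.mem (D := ta) hL (List.forall_mem_cons.2 ⟨hL.zero_mem K, hK⟩) hr ta_head ta_blocks
    (n := (nat_lit 48)) (w := (nat_lit 0x184411046118441184411046118441184411046118441184411046118441)) (st := (nat_lit 0x3303503703910510710910b20320520720920b20d88608508788b0b00ae8650d50d789a0d00ce8971f81f61f41f21f08bd3473498c036636446f47192063c63a628626006004002)) (by decide +kernel) (by decide +kernel)

theorem ta_mem47 {G : Type*} [Group G] {γ : ℕ → G} (hL : Lab γ tcI) (hr : ∀ t ∈ tcR, t.ev γ = 1) {K : Subgroup G}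
    (hK : ∀ t ∈ ([] : List W), t.ev γ ∈ K) :
    W.ev γ (.mul (.mul (.mul (.mul (.mul (.mul (.mul (.mul (.mul (.mul (.mul (.mul (.l 1) (.l 2)) (.pow (.mul (.l 1) (.inv (.l 2))) 2)) (.l 1)) (.l 2)) (.l 1)) (.inv (.l 2))) (.pow (.mul (.l 1) (.l 2)) 3)) (.pow (.mul (.l 1) (.inv (.l 2))) 2)) (.pow (.mul (.l 1) (.l 2)) 2)) (.l 1)) (.inv (.mul (.mul (.mul (.mul (.mul (.mul (.mul (.mul (.mul (.l 1) (.l 2)) (.pow (.mul (.l 1) (.inv (.l 2))) 2)) (.l 1)) (.l 2)) (.l 1)) (.inv (.l 2))) (.pow (.mul (.l 1) (.l 2)) 3)) (.pow (.mul (.l 1) (.inv (.l 2))) 2)) (.pow (.mul (.l 1) (.l 2)) 2)))) (.l 1)) ∈ K :=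
  TC.mem (D := ta) hL (List.forall_mem_cons.2 ⟨hL.zero_mem K, hK⟩) hr ta_head ta_blocks
    (n := (nat_lit 48)) (w := (nat_lit 0x184411046110461184611044118461104411846110441104611046118441)) (st := (nat_lit 0x3303503703910510710910b10d10f31131365965b65d65f66166366566766966b66d92b65665465265064e64c64a64864664464264063e3618d947192063c63a628626006004002)) (by decide +kernel) (by decide +kernel)

theorem ta_mem48 {G : Type*} [Group G] {γ : ℕ → G} (hL : Lab γ tcI) (hr : ∀ t ∈ tcR, t.ev γ = 1) {K : Subgroup G}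
    (hK : ∀ t ∈ ([] : List W), t.ev γ ∈ K) :
    W.ev γ (.mul (.mul (.mul (.mul (.mul (.mul (.mul (.mul (.mul (.mul (.mul (.mul (.mul (.mul (.mul (.mul (.mul (.mul (.mul (.mul (.mul (.mul (.mul (.mul (.mul (.mul (.l 1) (.inv (.l 2))) (.l 1)) (.l 2)) (.l 1)) (.inv (.l 2))) (.l 1)) (.l 2)) (.l 1)) (.inv (.l 2))) (.l 1)) (.l 2)) (.l 1)) (.inv (.l 2))) (.l 1)) (.l 2)) (.l 1)) (.inv (.l 2))) (.l 1)) (.l 2)) (.l 1)) (.inv (.l 2))) (.l 1)) (.l 2)) (.l 1)) (.inv (.mul (.mul (.mul (.mul (.mul (.mul (.mul (.mul (.mul (.mul (.mul (.mul (.mul (.mul (.mul (.mul (.mul (.mul (.mul (.mul (.mul (.mul (.mul (.l 1) (.inv (.l 2))) (.l 1)) (.l 2)) (.l 1)) (.inv (.l 2))) (.l 1)) (.l 2)) (.l 1)) (.inv (.l 2))) (.l 1)) (.l 2)) (.l 1)) (.inv (.l 2))) (.l 1)) (.l 2)) (.l 1)) (.inv (.l 2))) (.l 1)) (.l 2)) (.l 1)) (.inv (.l 2))) (.l 1)) (.l 2)))) (.l 1)) ∈ K :=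
  TC.mem (D := ta) hL (List.forall_mem_cons.2 ⟨hL.zero_mem K, hK⟩) hr ta_head ta_blocks
    (n := (nat_lit 48)) (w := (nat_lit 0x104611046110461104611046110461104611046110461104611046110461)) (st := (nat_lit 0x69969b69d69f6a16a36a56a76a96ab6ad6af6b16b36b56b76b96bb6bd6bf6c16c36c594d69669469269068e68c68a68868668468268067e67c67a94994467867667467267066e002)) (by decide +kernel) (by decide +kernel)

theorem ta_mem49 {G : Type*} [Group G] {γ : ℕ → G} (hL : Lab γ tcI) (hr : ∀ t ∈ tcR, t.ev γ = 1) {K : Subgroup G}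
    (hK : ∀ t ∈ ([] : List W), t.ev γ ∈ K) :
    W.ev γ (.mul (.mul (.mul (.mul (.mul (.mul (.mul (.mul (.mul (.mul (.mul (.mul (.mul (.mul (.mul (.mul (.mul (.mul (.mul (.l 1) (.inv (.l 2))) (.l 1)) (.l 2)) (.l 1)) (.inv (.l 2))) (.pow (.mul (.l 1) (.l 2)) 2)) (.l 1)) (.inv (.l 2))) (.l 1)) (.l 2)) (.pow (.mul (.l 1) (.inv (.l 2))) 2)) (.l 1)) (.l 2)) (.l 1)) (.inv (.l 2))) (.pow (.mul (.l 1) (.l 2)) 3)) (.l 1)) (.inv (.mul (.mul (.mul (.mul (.mul (.mul (.mul (.mul (.mul (.mul (.mul (.mul (.mul (.mul (.mul (.mul (.l 1) (.inv (.l 2))) (.l 1)) (.l 2)) (.l 1)) (.inv (.l 2))) (.pow (.mul (.l 1) (.l 2)) 2)) (.l 1)) (.inv (.l 2))) (.l 1)) (.l 2)) (.pow (.mul (.l 1) (.inv (.l 2))) 2)) (.l 1)) (.l 2)) (.l 1)) (.inv (.l 2))) (.pow (.mul (.l 1) (.l 2)) 3)))) (.l 1)) ∈ K :=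
  TC.mem (D := ta) hL (List.forall_mem_cons.2 ⟨hL.zero_mem K, hK⟩) hr ta_head ta_blocks
    (n := (nat_lit 56)) (w := (nat_lit 0x1046110461184411844110461104611846110441104611046118441184411046110461)) (st := (nat_lit 0x69969b69d69f6a16a36a56a76c76c96cb6cd6cf6d16d36d56d76d96db6dd6df6e195116316516716916b16d16f17117317517717990c14e14c14a1488a92b32b52b72b92bb2bd94994467867667467267066e002)) (by decide +kernel) (by decide +kernel)

theorem ta_mem50 {G : Type*} [Group G] {γ : ℕ → G} (hL : Lab γ tcI) (hr : ∀ t ∈ tcR, t.ev γ = 1) {K : Subgroup G}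
    (hK : ∀ t ∈ ([] : List W), t.ev γ ∈ K) :
    W.ev γ (.mul (.mul (.mul (.mul (.mul (.mul (.mul (.mul (.mul (.mul (.mul (.mul (.mul (.mul (.mul (.mul (.mul (.pow (.mul (.l 1) (.l 2)) 2) (.l 1)) (.inv (.l 2))) (.pow (.mul (.l 1) (.l 2)) 2)) (.l 1)) (.inv (.l 2))) (.l 1)) (.l 2)) (.pow (.mul (.l 1) (.inv (.l 2))) 2)) (.pow (.mul (.l 1) (.l 2)) 2)) (.l 1)) (.inv (.l 2))) (.pow (.mul (.l 1) (.l 2)) 2)) (.l 1)) (.inv (.l 2))) (.l 1)) (.inv (.mul (.mul (.mul (.mul (.mul (.mul (.mul (.mul (.mul (.mul (.mul (.mul (.mul (.mul (.pow (.mul (.l 1) (.l 2)) 2) (.l 1)) (.inv (.l 2))) (.pow (.mul (.l 1) (.l 2)) 2)) (.l 1)) (.inv (.l 2))) (.l 1)) (.l 2)) (.pow (.mul (.l 1) (.inv (.l 2))) 2)) (.pow (.mul (.l 1) (.l 2)) 2)) (.l 1)) (.inv (.l 2))) (.pow (.mul (.l 1) (.l 2)) 2)) (.l 1)) (.inv (.l 2))))) (.l 1)) ∈ K :=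
  TC.mem (D := ta) hL (List.forall_mem_cons.2 ⟨hL.zero_mem K, hK⟩) hr ta_head ta_blocks
    (n := (nat_lit 60)) (w := (nat_lit 0x184611046118441184411046118441184611046110441184411046118441184411046110441)) (st := (nat_lit 0x3303508908b08d08f0910931d71d91db1dd1df1e11e31e51e71e91eb1ed1ef1f11f31f51f71f98960cf0d189b0d60d48640af0b188a08608408208007e07c07a07807607407207006e06c06a06806606406200a008006004002)) (by decide +kernel) (by decide +kernel)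

theorem ta_mem51 {G : Type*} [Group G] {γ : ℕ → G} (hL : Lab γ tcI) (hr : ∀ t ∈ tcR, t.ev γ = 1) {K : Subgroup G}
    (hK : ∀ t ∈ ([] : List W), t.ev γ ∈ K) :
    W.ev γ (.mul (.mul (.mul (.mul (.mul (.mul (.mul (.mul (.mul (.mul (.mul (.pow (.mul (.l 1) (.l 2)) 2) (.l 1)) (.inv (.l 2))) (.l 1)) (.l 2)) (.pow (.mul (.l 1) (.inv (.l 2))) 2)) (.pow (.mul (.l 1) (.l 2)) 5)) (.pow (.mul (.l 1) (.inv (.l 2))) 2)) (.pow (.mul (.l 1) (.l 2)) 2)) (.l 1)) (.inv (.mul (.mul (.mul (.mul (.mul (.mul (.mul (.mul (.pow (.mul (.l 1) (.l 2)) 2) (.l 1)) (.inv (.l 2))) (.l 1)) (.l 2)) (.pow (.mul (.l 1) (.inv (.l 2))) 2)) (.pow (.mul (.l 1) (.l 2)) 5)) (.pow (.mul (.l 1) (.inv (.l 2))) 2)) (.pow (.mul (.l 1) (.l 2)) 2)))) (.l 1)) ∈ K :=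
  TC.mem (D := ta) hL (List.forall_mem_cons.2 ⟨hL.zero_mem K, hK⟩) hr ta_head ta_blocks
    (n := (nat_lit 60)) (w := (nat_lit 0x184611046110441184611846118441104611844110461184411044110441184611046110441)) (st := (nat_lit 0x3303508908b08d08f09109309509709909b09d09f0a10a36fd6ff70170370570770970b70d70f7117137159576fa6f86f66f46f26f06ee6ec6ea6e86e66e46e20c20c00be0bc0ba0b80b60b406806606406200a008006004002)) (by decide +kernel) (by decide +kernel)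

def ta_loops : List W := [.mul (.mul (.mul (.mul (.mul (.mul (.mul (.mul (.mul (.mul (.mul (.mul (.mul (.mul (.mul (.mul (.mul (.mul (.mul (.pow (.mul (.l 1) (.l 2)) 3) (.pow (.mul (.l 1) (.inv (.l 2))) 2)) (.pow (.mul (.l 1) (.l 2)) 2)) (.pow (.mul (.l 1) (.inv (.l 2))) 2)) (.pow (.mul (.l 1) (.l 2)) 2)) (.pow (.mul (.l 1) (.inv (.l 2))) 3)) (.l 1)) (.l 2)) (.l 1)) (.inv (.l 2))) (.pow (.mul (.l 1) (.l 2)) 2)) (.l 1)) (.inv (.l 2))) (.l 1)) (.l 2)) (.pow (.mul (.l 1) (.inv (.l 2))) 2)) (.l 1)) (.l 2)) (.l 1)) (.inv (.l 2)), .mul (.mul (.mul (.mul (.mul (.mul (.mul (.mul (.mul (.mul (.mul (.mul (.mul (.mul (.mul (.mul (.mul (.mul (.mul (.mul (.mul (.mul (.mul (.pow (.mul (.l 1) (.l 2)) 2) (.l 1)) (.inv (.l 2))) (.pow (.mul (.l 1) (.l 2)) 2)) (.l 1)) (.inv (.l 2))) (.l 1)) (.l 2)) (.pow (.mul (.l 1) (.inv (.l 2))) 2)) (.pow (.mul (.l 1) (.l 2)) 2)) (.l 1)) (.inv (.l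 2))) (.l 1)) (.l 2)) (.pow (.mul (.l 1) (.inv (.l 2))) 2)) (.l 1)) (.l 2)) (.pow (.mul (.l 1) (.inv (.l 2))) 2)) (.pow (.mul (.l 1) (.l 2)) 2)) (.l 1)) (.inv (.l 2))) (.l 1)) (.l 2)) (.pow (.mul (.l 1) (.inv (.l 2))) 2), .mul (.mul (.mul (.mul (.mul (.mul (.mul (.mul (.mul (.mul (.mul (.mul (.mul (.mul (.mul (.mul (.mul (.mul (.mul (.mul (.mul (.mul (.mul (.pow (.mul (.l 1) (.l 2)) 2) (.l 1)) (.inv (.l 2))) (.l 1)) (.l 2)) (.pow (.mul (.l 1) (.inv (.l 2))) 2)) (.pow (.mul (.l 1) (.l 2)) 2)) (.l 1)) (.inv (.l 2))) (.l 1)) (.l 2)) (.pow (.mul (.l 1) (.inv (.l 2))) 2)) (.pow (.mul (.l 1) (.l 2)) 2)) (.l 1)) (.inv (.l 2))) (.l 1)) (.l 2)) (.pow (.mul (.l 1) (.inv (.l 2))) 2)) (.pow (.mul (.l 1) (.l 2)) 2)) (.l 1)) (.inv (.l 2))) (.l 1)) (.l 2)) (.pow (.mul (.l 1) (.inv (.l 2))) 2), .mul (.mul (.mul (.mul (.mul (.mul (.mul (.mul (.mul (.mul (.mul (.mul (.mul (.mul (.mul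 (.mul (.mul (.pow (.mul (.l 1) (.l 2)) 5) (.pow (.mul (.l 1) (.inv (.l 2))) 2)) (.pow (.mul (.l 1) (.l 2)) 2)) (.pow (.mul (.l 1) (.inv (.l 2))) 2)) (.pow (.mul (.l 1) (.l 2)) 2)) (.pow (.mul (.l 1) (.inv (.l 2))) 2)) (.pow (.mul (.l 1) (.l 2)) 3)) (.l 1)) (.inv (.l 2))) (.l 1)) (.l 2)) (.pow (.mul (.l 1) (.inv (.l 2))) 2)) (.pow (.mul (.l 1) (.l 2)) 2)) (.l 1)) (.inv (.l 2))) (.pow (.mul (.l 1) (.l 2)) 2)) (.l 1)) (.inv (.l 2)), .mul (.mul (.mul (.mul (.mul (.mul (.mul (.mul (.mul (.mul (.mul (.mul (.mul (.mul (.mul (.mul (.mul (.mul (.mul (.mul (.mul (.pow (.mul (.l 1) (.l 2)) 3) (.l 1)) (.inv (.l 2))) (.pow (.mul (.l 1) (.l 2)) 2)) (.l 1)) (.inv (.l 2))) (.pow (.mul (.l 1) (.l 2)) 2)) (.l 1)) (.inv (.l 2))) (.pow (.mul (.l 1) (.l 2)) 2)) (.l 1)) (.inv (.l 2))) (.l 1)) (.l 2)) (.l 1)) (.inv (.l 2))) (.pow (.mul (.l 1) (.l 2)) 3)) (.pow (.mul (.l 1) (.inv (.l 2)))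 2)) (.pow (.mul (.l 1) (.l 2)) 2)) (.pow (.mul (.l 1) (.inv (.l 2))) 2)) (.pow (.mul (.l 1) (.l 2)) 2)) (.pow (.mul (.l 1) (.inv (.l 2))) 2), .mul (.mul (.mul (.mul (.mul (.mul (.mul (.mul (.mul (.mul (.mul (.mul (.mul (.mul (.mul (.mul (.mul (.mul (.mul (.mul (.mul (.mul (.mul (.mul (.mul (.mul (.mul (.mul (.mul (.mul (.mul (.mul (.mul (.pow (.mul (.l 1) (.l 2)) 3) (.pow (.mul (.l 1) (.inv (.l 2))) 3)) (.l 1)) (.l 2)) (.l 1)) (.inv (.l 2))) (.pow (.mul (.l 1) (.l 2)) 2)) (.l 1)) (.inv (.l 2))) (.l 1)) (.l 2)) (.pow (.mul (.l 1) (.inv (.l 2))) 2)) (.l 1)) (.l 2)) (.l 1)) (.inv (.l 2))) (.l 1)) (.l 2)) (.l 1)) (.inv (.l 2))) (.l 1)) (.l 2)) (.l 1)) (.inv (.l 2))) (.pow (.mul (.l 1) (.l 2)) 2)) (.l 1)) (.inv (.l 2))) (.l 1)) (.l 2)) (.pow (.mul (.l 1) (.inv (.l 2))) 2)) (.l 1)) (.l 2)) (.l 1)) (.inv (.l 2)), .mul (.mul (.mul (.mul (.mul (.mul (.mul (.mul (.mul (.mul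 (.mul (.mul (.mul (.mul (.mul (.mul (.mul (.mul (.mul (.mul (.mul (.mul (.mul (.mul (.mul (.mul (.pow (.mul (.l 1) (.l 2)) 5) (.l 1)) (.inv (.l 2))) (.pow (.mul (.l 1) (.l 2)) 2)) (.l 1)) (.inv (.l 2))) (.pow (.mul (.l 1) (.l 2)) 2)) (.l 1)) (.inv (.l 2))) (.l 1)) (.l 2)) (.pow (.mul (.l 1) (.inv (.l 2))) 2)) (.l 1)) (.l 2)) (.l 1)) (.inv (.l 2))) (.pow (.mul (.l 1) (.l 2)) 2)) (.pow (.mul (.l 1) (.inv (.l 2))) 2)) (.l 1)) (.l 2)) (.pow (.mul (.l 1) (.inv (.l 2))) 2)) (.pow (.mul (.l 1) (.l 2)) 2)) (.l 1)) (.inv (.l 2))) (.pow (.mul (.l 1) (.l 2)) 2)) (.l 1)) (.inv (.l 2)), .mul (.mul (.mul (.mul (.mul (.mul (.mul (.mul (.mul (.mul (.mul (.mul (.mul (.mul (.mul (.mul (.mul (.mul (.mul (.mul (.mul (.pow (.mul (.l 1) (.l 2)) 5) (.pow (.mul (.l 1) (.inv (.l 2))) 2)) (.pow (.mul (.l 1) (.l 2)) 2)) (.pow (.mul (.l 1) (.inv (.l 2))) 2)) (.pow (.mul (.l 1) (.l 2)) 2)) (.pow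 (.mul (.l 1) (.inv (.l 2))) 3)) (.l 1)) (.l 2)) (.l 1)) (.inv (.l 2))) (.l 1)) (.l 2)) (.pow (.mul (.l 1) (.inv (.l 2))) 2)) (.pow (.mul (.l 1) (.l 2)) 2)) (.l 1)) (.inv (.l 2))) (.l 1)) (.l 2)) (.pow (.mul (.l 1) (.inv (.l 2))) 2)) (.l 1)) (.l 2)) (.pow (.mul (.l 1) (.inv (.l 2))) 2), .mul (.mul (.mul (.mul (.mul (.mul (.mul (.mul (.mul (.mul (.mul (.mul (.mul (.mul (.mul (.mul (.mul (.pow (.mul (.l 1) (.l 2)) 5) (.pow (.mul (.l 1) (.inv (.l 2))) 2)) (.pow (.mul (.l 1) (.l 2)) 2)) (.pow (.mul (.l 1) (.inv (.l 2))) 2)) (.pow (.mul (.l 1) (.l 2)) 2)) (.pow (.mul (.l 1) (.inv (.l 2))) 5)) (.pow (.mul (.l 1) (.l 2)) 2)) (.l 1)) (.inv (.l 2))) (.l 1)) (.l 2)) (.pow (.mul (.l 1) (.inv (.l 2))) 2)) (.pow (.mul (.l 1) (.l 2)) 2)) (.l 1)) (.inv (.l 2))) (.l 1)) (.l 2)) (.pow (.mul (.l 1) (.inv (.l 2))) 2), .mul (.mul (.mul (.mul (.mul (.mul (.mul (.mul (.mul (.mul (.mul (.mul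 (.mul (.mul (.mul (.mul (.mul (.pow (.mul (.l 1) (.l 2)) 5) (.pow (.mul (.l 1) (.inv (.l 2))) 2)) (.pow (.mul (.l 1) (.l 2)) 2)) (.pow (.mul (.l 1) (.inv (.l 2))) 2)) (.pow (.mul (.l 1) (.l 2)) 2)) (.pow (.mul (.l 1) (.inv (.l 2))) 5)) (.l 1)) (.l 2)) (.pow (.mul (.l 1) (.inv (.l 2))) 2)) (.pow (.mul (.l 1) (.l 2)) 2)) (.l 1)) (.inv (.l 2))) (.l 1)) (.l 2)) (.pow (.mul (.l 1) (.inv (.l 2))) 2)) (.pow (.mul (.l 1) (.l 2)) 2)) (.l 1)) (.inv (.l 2)), .mul (.mul (.mul (.mul (.mul (.mul (.mul (.mul (.mul (.mul (.mul (.mul (.mul (.mul (.mul (.pow (.mul (.l 1) (.l 2)) 4) (.l 1)) (.inv (.l 2))) (.pow (.mul (.l 1) (.l 2)) 3)) (.pow (.mul (.l 1) (.inv (.l 2))) 3)) (.l 1)) (.l 2)) (.pow (.mul (.l 1) (.inv (.l 2))) 3)) (.pow (.mul (.l 1) (.l 2)) 4)) (.l 1)) (.inv (.l 2))) (.pow (.mul (.l 1) (.l 2)) 3)) (.pow (.mul (.l 1) (.inv (.l 2))) 3)) (.l 1)) (.l 2)) (.pow (.mul (.l 1) (.inv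 (.l 2))) 3), .mul (.mul (.mul (.mul (.mul (.mul (.mul (.mul (.mul (.mul (.mul (.mul (.mul (.mul (.mul (.mul (.mul (.mul (.mul (.mul (.mul (.mul (.mul (.mul (.mul (.pow (.mul (.l 1) (.l 2)) 4) (.pow (.mul (.l 1) (.inv (.l 2))) 2)) (.pow (.mul (.l 1) (.l 2)) 2)) (.l 1)) (.inv (.l 2))) (.pow (.mul (.l 1) (.l 2)) 2)) (.l 1)) (.inv (.l 2))) (.pow (.mul (.l 1) (.l 2)) 2)) (.l 1)) (.inv (.l 2))) (.l 1)) (.l 2)) (.l 1)) (.inv (.l 2))) (.pow (.mul (.l 1) (.l 2)) 2)) (.pow (.mul (.l 1) (.inv (.l 2))) 2)) (.l 1)) (.l 2)) (.pow (.mul (.l 1) (.inv (.l 2))) 2)) (.pow (.mul (.l 1) (.l 2)) 2)) (.l 1)) (.inv (.l 2))) (.pow (.mul (.l 1) (.l 2)) 2)) (.l 1)) (.inv (.l 2)), .mul (.mul (.mul (.mul (.mul (.mul (.mul (.mul (.mul (.mul (.mul (.mul (.mul (.mul (.mul (.mul (.mul (.mul (.mul (.mul (.mul (.pow (.mul (.l 1) (.l 2)) 4) (.pow (.mul (.l 1) (.inv (.l 2))) 2)) (.l 1)) (.l 2)) (.pow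 (.mul (.l 1) (.inv (.l 2))) 2)) (.pow (.mul (.l 1) (.l 2)) 2)) (.l 1)) (.inv (.l 2))) (.pow (.mul (.l 1) (.l 2)) 2)) (.l 1)) (.inv (.l 2))) (.pow (.mul (.l 1) (.l 2)) 4)) (.pow (.mul (.l 1) (.inv (.l 2))) 2)) (.l 1)) (.l 2)) (.pow (.mul (.l 1) (.inv (.l 2))) 2)) (.pow (.mul (.l 1) (.l 2)) 2)) (.l 1)) (.inv (.l 2))) (.pow (.mul (.l 1) (.l 2)) 2)) (.l 1)) (.inv (.l 2)), .mul (.mul (.mul (.mul (.mul (.mul (.mul (.mul (.mul (.mul (.mul (.mul (.mul (.mul (.mul (.mul (.mul (.mul (.mul (.mul (.mul (.mul (.mul (.mul (.mul (.mul (.mul (.mul (.mul (.mul (.mul (.pow (.mul (.l 1) (.l 2)) 3) (.l 1)) (.inv (.l 2))) (.pow (.mul (.l 1) (.l 2)) 2)) (.l 1)) (.inv (.l 2))) (.pow (.mul (.l 1) (.l 2)) 2)) (.l 1)) (.inv (.l 2))) (.l 1)) (.l 2)) (.pow (.mul (.l 1) (.inv (.l 2))) 2)) (.l 1)) (.l 2)) (.l 1)) (.inv (.l 2))) (.pow (.mul (.l 1) (.l 2)) 3)) (.l 1)) (.inv (.l 2))) (.pow (.mul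 (.l 1) (.l 2)) 2)) (.l 1)) (.inv (.l 2))) (.pow (.mul (.l 1) (.l 2)) 2)) (.l 1)) (.inv (.l 2))) (.l 1)) (.l 2)) (.pow (.mul (.l 1) (.inv (.l 2))) 2)) (.l 1)) (.l 2)) (.l 1)) (.inv (.l 2)), .mul (.mul (.mul (.mul (.mul (.mul (.mul (.mul (.mul (.mul (.mul (.mul (.mul (.mul (.mul (.mul (.mul (.mul (.mul (.mul (.mul (.mul (.mul (.mul (.mul (.mul (.mul (.mul (.mul (.mul (.pow (.mul (.l 1) (.l 2)) 3) (.l 1)) (.inv (.l 2))) (.pow (.mul (.l 1) (.l 2)) 2)) (.l 1)) (.inv (.l 2))) (.pow (.mul (.l 1) (.l 2)) 2)) (.l 1)) (.inv (.l 2))) (.l 1)) (.l 2)) (.pow (.mul (.l 1) (.inv (.l 2))) 2)) (.l 1)) (.l 2)) (.l 1)) (.inv (.l 2))) (.pow (.mul (.l 1) (.l 2)) 2)) (.pow (.mul (.l 1) (.inv (.l 2))) 2)) (.pow (.mul (.l 1) (.l 2)) 2)) (.l 1)) (.inv (.l 2))) (.pow (.mul (.l 1) (.l 2)) 2)) (.l 1)) (.inv (.l 2))) (.pow (.mul (.l 1) (.l 2)) 2)) (.l 1)) (.inv (.l 2))) (.l 1)) (.l 2)) (.l 1))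 (.inv (.l 2)), .mul (.mul (.mul (.mul (.mul (.mul (.mul (.mul (.mul (.mul (.mul (.mul (.mul (.mul (.mul (.mul (.mul (.mul (.mul (.mul (.mul (.mul (.mul (.mul (.mul (.mul (.mul (.mul (.mul (.mul (.mul (.pow (.mul (.l 1) (.l 2)) 3) (.pow (.mul (.l 1) (.inv (.l 2))) 2)) (.pow (.mul (.l 1) (.l 2)) 2)) (.l 1)) (.inv (.l 2))) (.pow (.mul (.l 1) (.l 2)) 2)) (.pow (.mul (.l 1) (.inv (.l 2))) 3)) (.pow (.mul (.l 1) (.l 2)) 2)) (.l 1)) (.inv (.l 2))) (.l 1)) (.l 2)) (.l 1)) (.inv (.l 2))) (.l 1)) (.l 2)) (.l 1)) (.inv (.l 2))) (.pow (.mul (.l 1) (.l 2)) 2)) (.l 1)) (.inv (.l 2))) (.l 1)) (.l 2)) (.l 1)) (.inv (.l 2))) (.l 1)) (.l 2)) (.l 1)) (.inv (.l 2))) (.pow (.mul (.l 1) (.l 2)) 2)) (.l 1)) (.inv (.l 2)), .mul (.mul (.mul (.mul (.mul (.mul (.mul (.mul (.mul (.mul (.mul (.mul (.mul (.mul (.mul (.mul (.mul (.mul (.mul (.mul (.mul (.mul (.mul (.mul (.mul (.mul (.mul (.mul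 (.mul (.pow (.mul (.l 1) (.l 2)) 2) (.l 1)) (.inv (.l 2))) (.pow (.mul (.l 1) (.l 2)) 2)) (.l 1)) (.inv (.l 2))) (.pow (.mul (.l 1) (.l 2)) 2)) (.l 1)) (.inv (.l 2))) (.pow (.mul (.l 1) (.l 2)) 2)) (.l 1)) (.inv (.l 2))) (.pow (.mul (.l 1) (.l 2)) 2)) (.l 1)) (.inv (.l 2))) (.pow (.mul (.l 1) (.l 2)) 2)) (.l 1)) (.inv (.l 2))) (.pow (.mul (.l 1) (.l 2)) 2)) (.l 1)) (.inv (.l 2))) (.l 1)) (.l 2)) (.pow (.mul (.l 1) (.inv (.l 2))) 2)) (.pow (.mul (.l 1) (.l 2)) 2)) (.l 1)) (.inv (.l 2))) (.l 1)) (.l 2)) (.pow (.mul (.l 1) (.inv (.l 2))) 2), .mul (.mul (.mul (.mul (.mul (.mul (.mul (.mul (.mul (.mul (.mul (.mul (.mul (.mul (.mul (.mul (.mul (.mul (.mul (.mul (.mul (.mul (.mul (.mul (.mul (.mul (.mul (.mul (.mul (.pow (.mul (.l 1) (.l 2)) 2) (.l 1)) (.inv (.l 2))) (.pow (.mul (.l 1) (.l 2)) 2)) (.l 1)) (.inv (.l 2))) (.pow (.mul (.l 1) (.l 2)) 2)) (.l 1)) (.inv (.l 2)))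 (.pow (.mul (.l 1) (.l 2)) 2)) (.l 1)) (.inv (.l 2))) (.l 1)) (.l 2)) (.pow (.mul (.l 1) (.inv (.l 2))) 2)) (.pow (.mul (.l 1) (.l 2)) 2)) (.l 1)) (.inv (.l 2))) (.pow (.mul (.l 1) (.l 2)) 2)) (.l 1)) (.inv (.l 2))) (.pow (.mul (.l 1) (.l 2)) 2)) (.l 1)) (.inv (.l 2))) (.pow (.mul (.l 1) (.l 2)) 2)) (.l 1)) (.inv (.l 2))) (.l 1)) (.l 2)) (.pow (.mul (.l 1) (.inv (.l 2))) 2), .mul (.mul (.mul (.mul (.mul (.mul (.mul (.mul (.mul (.mul (.mul (.mul (.mul (.mul (.mul (.mul (.mul (.mul (.mul (.mul (.mul (.mul (.mul (.mul (.mul (.mul (.mul (.mul (.mul (.pow (.mul (.l 1) (.l 2)) 2) (.l 1)) (.inv (.l 2))) (.pow (.mul (.l 1) (.l 2)) 2)) (.l 1)) (.inv (.l 2))) (.pow (.mul (.l 1) (.l 2)) 2)) (.l 1)) (.inv (.l 2))) (.l 1)) (.l 2)) (.l 1)) (.inv (.l 2))) (.pow (.mul (.l 1) (.l 2)) 2)) (.pow (.mul (.l 1) (.inv (.l 2))) 2)) (.pow (.mul (.l 1) (.l 2)) 2)) (.l 1)) (.inv (.l 2))) (.pow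 (.mul (.l 1) (.l 2)) 2)) (.l 1)) (.inv (.l 2))) (.pow (.mul (.l 1) (.l 2)) 2)) (.l 1)) (.inv (.l 2))) (.l 1)) (.l 2)) (.l 1)) (.inv (.l 2))) (.pow (.mul (.l 1) (.l 2)) 2)) (.pow (.mul (.l 1) (.inv (.l 2))) 2), .mul (.mul (.mul (.mul (.mul (.mul (.mul (.mul (.mul (.mul (.mul (.mul (.mul (.mul (.mul (.mul (.mul (.mul (.mul (.mul (.mul (.mul (.mul (.mul (.mul (.mul (.mul (.mul (.mul (.pow (.mul (.l 1) (.l 2)) 2) (.l 1)) (.inv (.l 2))) (.pow (.mul (.l 1) (.l 2)) 2)) (.l 1)) (.inv (.l 2))) (.l 1)) (.l 2)) (.pow (.mul (.l 1) (.inv (.l 2))) 2)) (.pow (.mul (.l 1) (.l 2)) 2)) (.l 1)) (.inv (.l 2))) (.pow (.mul (.l 1) (.l 2)) 2)) (.l 1)) (.inv (.l 2))) (.l 1)) (.l 2)) (.pow (.mul (.l 1) (.inv (.l 2))) 2)) (.l 1)) (.l 2)) (.pow (.mul (.l 1) (.inv (.l 2))) 2)) (.pow (.mul (.l 1) (.l 2)) 2)) (.l 1)) (.inv (.l 2))) (.l 1)) (.l 2)) (.pow (.mul (.l 1) (.inv (.l 2))) 2)) (.l 1))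 (.l 2)) (.pow (.mul (.l 1) (.inv (.l 2))) 2), .mul (.mul (.mul (.mul (.mul (.mul (.mul (.mul (.mul (.mul (.mul (.mul (.mul (.mul (.mul (.mul (.mul (.mul (.mul (.mul (.mul (.mul (.mul (.mul (.mul (.mul (.pow (.mul (.l 1) (.l 2)) 5) (.l 1)) (.inv (.l 2))) (.pow (.mul (.l 1) (.l 2)) 2)) (.l 1)) (.inv (.l 2))) (.pow (.mul (.l 1) (.l 2)) 2)) (.l 1)) (.inv (.l 2))) (.l 1)) (.l 2)) (.pow (.mul (.l 1) (.inv (.l 2))) 2)) (.l 1)) (.l 2)) (.pow (.mul (.l 1) (.inv (.l 2))) 4)) (.pow (.mul (.l 1) (.l 2)) 2)) (.l 1)) (.inv (.l 2))) (.l 1)) (.l 2)) (.pow (.mul (.l 1) (.inv (.l 2))) 2)) (.l 1)) (.l 2)) (.pow (.mul (.l 1) (.inv (.l 2))) 2)) (.l 1)) (.l 2)) (.pow (.mul (.l 1) (.inv (.l 2))) 2), .mul (.mul (.mul (.mul (.mul (.mul (.mul (.mul (.mul (.mul (.mul (.mul (.mul (.mul (.mul (.mul (.mul (.mul (.mul (.mul (.mul (.mul (.mul (.mul (.mul (.mul (.pow (.mul (.l 1) (.l 2)) 5) (.l 1))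 (.inv (.l 2))) (.pow (.mul (.l 1) (.l 2)) 2)) (.l 1)) (.inv (.l 2))) (.pow (.mul (.l 1) (.l 2)) 2)) (.l 1)) (.inv (.l 2))) (.l 1)) (.l 2)) (.pow (.mul (.l 1) (.inv (.l 2))) 2)) (.l 1)) (.l 2)) (.pow (.mul (.l 1) (.inv (.l 2))) 4)) (.l 1)) (.l 2)) (.pow (.mul (.l 1) (.inv (.l 2))) 2)) (.l 1)) (.l 2)) (.pow (.mul (.l 1) (.inv (.l 2))) 2)) (.l 1)) (.l 2)) (.pow (.mul (.l 1) (.inv (.l 2))) 2)) (.pow (.mul (.l 1) (.l 2)) 2)) (.l 1)) (.inv (.l 2)), .mul (.mul (.mul (.mul (.mul (.mul (.mul (.mul (.mul (.mul (.mul (.mul (.mul (.mul (.mul (.mul (.mul (.mul (.mul (.mul (.mul (.mul (.mul (.mul (.mul (.mul (.pow (.mul (.l 1) (.l 2)) 5) (.l 1)) (.inv (.l 2))) (.l 1)) (.l 2)) (.pow (.mul (.l 1) (.inv (.l 2))) 2)) (.l 1)) (.l 2)) (.pow (.mul (.l 1) (.inv (.l 2))) 2)) (.l 1)) (.l 2)) (.pow (.mul (.l 1) (.inv (.l 2))) 3)) (.l 1)) (.l 2)) (.l 1)) (.inv (.l 2))) (.l 1)) (.l 2)) (.pow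 (.mul (.l 1) (.inv (.l 2))) 2)) (.l 1)) (.l 2)) (.l 1)) (.inv (.l 2))) (.pow (.mul (.l 1) (.l 2)) 3)) (.pow (.mul (.l 1) (.inv (.l 2))) 2)) (.pow (.mul (.l 1) (.l 2)) 2)) (.pow (.mul (.l 1) (.inv (.l 2))) 2), .mul (.mul (.mul (.mul (.mul (.mul (.mul (.mul (.mul (.mul (.mul (.mul (.mul (.mul (.mul (.mul (.mul (.mul (.mul (.mul (.mul (.mul (.mul (.mul (.mul (.mul (.mul (.pow (.mul (.l 1) (.l 2)) 5) (.pow (.mul (.l 1) (.inv (.l 2))) 3)) (.l 1)) (.l 2)) (.l 1)) (.inv (.l 2))) (.pow (.mul (.l 1) (.l 2)) 2)) (.l 1)) (.inv (.l 2))) (.l 1)) (.l 2)) (.pow (.mul (.l 1) (.inv (.l 2))) 2)) (.l 1)) (.l 2)) (.l 1)) (.inv (.l 2))) (.pow (.mul (.l 1) (.l 2)) 4)) (.l 1)) (.inv (.l 2))) (.l 1)) (.l 2)) (.pow (.mul (.l 1) (.inv (.l 2))) 2)) (.pow (.mul (.l 1) (.l 2)) 2)) (.l 1)) (.inv (.l 2))) (.pow (.mul (.l 1) (.l 2)) 2)) (.l 1)) (.inv (.l 2)), .mul (.mul (.mul (.mul (.mul (.mul (.mul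 (.mul (.mul (.mul (.mul (.mul (.mul (.mul (.mul (.mul (.mul (.mul (.mul (.mul (.mul (.mul (.mul (.mul (.mul (.mul (.mul (.mul (.mul (.mul (.mul (.mul (.mul (.mul (.mul (.mul (.pow (.mul (.l 1) (.l 2)) 4) (.l 1)) (.inv (.l 2))) (.pow (.mul (.l 1) (.l 2)) 2)) (.l 1)) (.inv (.l 2))) (.pow (.mul (.l 1) (.l 2)) 2)) (.l 1)) (.inv (.l 2))) (.pow (.mul (.l 1) (.l 2)) 3)) (.l 1)) (.inv (.l 2))) (.pow (.mul (.l 1) (.l 2)) 2)) (.l 1)) (.inv (.l 2))) (.l 1)) (.l 2)) (.l 1)) (.inv (.l 2))) (.l 1)) (.l 2)) (.l 1)) (.inv (.l 2))) (.pow (.mul (.l 1) (.l 2)) 2)) (.l 1)) (.inv (.l 2))) (.l 1)) (.l 2)) (.l 1)) (.inv (.l 2))) (.l 1)) (.l 2)) (.l 1)) (.inv (.l 2))) (.pow (.mul (.l 1) (.l 2)) 2)) (.l 1)) (.inv (.l 2)), .mul (.mul (.mul (.mul (.mul (.mul (.mul (.mul (.mul (.mul (.mul (.mul (.mul (.mul (.mul (.mul (.mul (.mul (.mul (.mul (.mul (.mul (.mul (.mul (.mul (.mul (.mul (.mul (.mul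 (.mul (.mul (.pow (.mul (.l 1) (.l 2)) 4) (.l 1)) (.inv (.l 2))) (.pow (.mul (.l 1) (.l 2)) 2)) (.l 1)) (.inv (.l 2))) (.pow (.mul (.l 1) (.l 2)) 2)) (.l 1)) (.inv (.l 2))) (.pow (.mul (.l 1) (.l 2)) 2)) (.l 1)) (.inv (.l 2))) (.l 1)) (.l 2)) (.l 1)) (.inv (.l 2))) (.pow (.mul (.l 1) (.l 2)) 3)) (.pow (.mul (.l 1) (.inv (.l 2))) 3)) (.l 1)) (.l 2)) (.l 1)) (.inv (.l 2))) (.pow (.mul (.l 1) (.l 2)) 2)) (.l 1)) (.inv (.l 2))) (.l 1)) (.l 2)) (.pow (.mul (.l 1) (.inv (.l 2))) 2)) (.l 1)) (.l 2)) (.l 1)) (.inv (.l 2)), .mul (.mul (.mul (.mul (.mul (.mul (.mul (.mul (.mul (.mul (.mul (.mul (.mul (.mul (.mul (.mul (.mul (.mul (.mul (.mul (.mul (.mul (.mul (.mul (.mul (.mul (.pow (.mul (.l 1) (.l 2)) 4) (.l 1)) (.inv (.l 2))) (.pow (.mul (.l 1) (.l 2)) 2)) (.l 1)) (.inv (.l 2))) (.pow (.mul (.l 1) (.l 2)) 2)) (.pow (.mul (.l 1) (.inv (.l 2))) 4)) (.pow (.mul (.l 1) (.l 2))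 2)) (.l 1)) (.inv (.l 2))) (.pow (.mul (.l 1) (.l 2)) 2)) (.pow (.mul (.l 1) (.inv (.l 2))) 3)) (.pow (.mul (.l 1) (.l 2)) 2)) (.l 1)) (.inv (.l 2))) (.l 1)) (.l 2)) (.l 1)) (.inv (.l 2))) (.l 1)) (.l 2)) (.l 1)) (.inv (.l 2))) (.pow (.mul (.l 1) (.l 2)) 2)) (.l 1)) (.inv (.l 2)), .mul (.mul (.mul (.mul (.mul (.mul (.mul (.mul (.mul (.mul (.mul (.mul (.mul (.mul (.mul (.mul (.mul (.mul (.mul (.mul (.mul (.mul (.mul (.mul (.mul (.mul (.mul (.mul (.mul (.mul (.pow (.mul (.l 1) (.l 2)) 4) (.l 1)) (.inv (.l 2))) (.pow (.mul (.l 1) (.l 2)) 2)) (.l 1)) (.inv (.l 2))) (.l 1)) (.l 2)) (.pow (.mul (.l 1) (.inv (.l 2))) 2)) (.l 1)) (.l 2)) (.pow (.mul (.l 1) (.inv (.l 2))) 2)) (.l 1)) (.l 2)) (.pow (.mul (.l 1) (.inv (.l 2))) 3)) (.l 1)) (.l 2)) (.l 1)) (.inv (.l 2))) (.pow (.mul (.l 1) (.l 2)) 2)) (.l 1)) (.inv (.l 2))) (.pow (.mul (.l 1) (.l 2)) 2)) (.l 1)) (.inv (.l 2)))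 (.l 1)) (.l 2)) (.pow (.mul (.l 1) (.inv (.l 2))) 2)) (.l 1)) (.l 2)) (.pow (.mul (.l 1) (.inv (.l 2))) 2), .mul (.mul (.mul (.mul (.mul (.mul (.mul (.mul (.mul (.mul (.mul (.mul (.mul (.mul (.mul (.mul (.mul (.mul (.mul (.mul (.mul (.mul (.mul (.mul (.mul (.mul (.mul (.mul (.mul (.pow (.mul (.l 1) (.l 2)) 4) (.l 1)) (.inv (.l 2))) (.l 1)) (.l 2)) (.pow (.mul (.l 1) (.inv (.l 2))) 2)) (.l 1)) (.l 2)) (.pow (.mul (.l 1) (.inv (.l 2))) 2)) (.l 1)) (.l 2)) (.pow (.mul (.l 1) (.inv (.l 2))) 2)) (.pow (.mul (.l 1) (.l 2)) 2)) (.pow (.mul (.l 1) (.inv (.l 2))) 2)) (.l 1)) (.l 2)) (.l 1)) (.inv (.l 2))) (.pow (.mul (.l 1) (.l 2)) 2)) (.l 1)) (.inv (.l 2))) (.pow (.mul (.l 1) (.l 2)) 2)) (.l 1)) (.inv (.l 2))) (.l 1)) (.l 2)) (.pow (.mul (.l 1) (.inv (.l 2))) 2)) (.l 1)) (.l 2)) (.pow (.mul (.l 1) (.inv (.l 2))) 2), .mul (.mul (.mul (.mul (.mul (.mul (.mul (.mul (.mul (.mul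 (.mul (.mul (.mul (.mul (.mul (.mul (.mul (.mul (.mul (.mul (.mul (.mul (.mul (.mul (.mul (.pow (.mul (.l 1) (.l 2)) 4) (.l 1)) (.inv (.l 2))) (.l 1)) (.l 2)) (.pow (.mul (.l 1) (.inv (.l 2))) 2)) (.l 1)) (.l 2)) (.pow (.mul (.l 1) (.inv (.l 2))) 2)) (.l 1)) (.l 2)) (.pow (.mul (.l 1) (.inv (.l 2))) 2)) (.pow (.mul (.l 1) (.l 2)) 2)) (.pow (.mul (.l 1) (.inv (.l 2))) 4)) (.pow (.mul (.l 1) (.l 2)) 2)) (.l 1)) (.inv (.l 2))) (.pow (.mul (.l 1) (.l 2)) 2)) (.l 1)) (.inv (.l 2))) (.pow (.mul (.l 1) (.l 2)) 2)) (.l 1)) (.inv (.l 2))) (.l 1)) (.l 2)) (.pow (.mul (.l 1) (.inv (.l 2))) 2), .mul (.mul (.mul (.mul (.mul (.mul (.mul (.mul (.mul (.mul (.mul (.mul (.mul (.mul (.mul (.mul (.mul (.mul (.mul (.mul (.mul (.mul (.mul (.mul (.mul (.pow (.mul (.l 1) (.l 2)) 4) (.l 1)) (.inv (.l 2))) (.l 1)) (.l 2)) (.pow (.mul (.l 1) (.inv (.l 2))) 2)) (.l 1)) (.l 2)) (.pow (.mul (.l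 1) (.inv (.l 2))) 2)) (.l 1)) (.l 2)) (.pow (.mul (.l 1) (.inv (.l 2))) 2)) (.pow (.mul (.l 1) (.l 2)) 2)) (.pow (.mul (.l 1) (.inv (.l 2))) 4)) (.l 1)) (.l 2)) (.pow (.mul (.l 1) (.inv (.l 2))) 2)) (.pow (.mul (.l 1) (.l 2)) 2)) (.l 1)) (.inv (.l 2))) (.pow (.mul (.l 1) (.l 2)) 2)) (.l 1)) (.inv (.l 2))) (.pow (.mul (.l 1) (.l 2)) 2)) (.l 1)) (.inv (.l 2)), .mul (.mul (.mul (.mul (.mul (.mul (.mul (.mul (.mul (.mul (.mul (.mul (.mul (.mul (.mul (.mul (.mul (.mul (.mul (.mul (.mul (.mul (.mul (.mul (.pow (.mul (.l 1) (.l 2)) 4) (.pow (.mul (.l 1) (.inv (.l 2))) 2)) (.l 1)) (.l 2)) (.pow (.mul (.l 1) (.inv (.l 2))) 2)) (.pow (.mul (.l 1) (.l 2)) 2)) (.l 1)) (.inv (.l 2))) (.pow (.mul (.l 1) (.l 2)) 2)) (.l 1)) (.inv (.l 2))) (.pow (.mul (.l 1) (.l 2)) 2)) (.pow (.mul (.l 1) (.inv (.l 2))) 3)) (.pow (.mul (.l 1) (.l 2)) 2)) (.l 1)) (.inv (.l 2))) (.l 1)) (.l 2)) (.pow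 (.mul (.l 1) (.inv (.l 2))) 2)) (.l 1)) (.l 2)) (.pow (.mul (.l 1) (.inv (.l 2))) 2)) (.l 1)) (.l 2)) (.pow (.mul (.l 1) (.inv (.l 2))) 2), .mul (.mul (.mul (.mul (.mul (.mul (.mul (.mul (.mul (.mul (.mul (.mul (.mul (.mul (.mul (.mul (.mul (.mul (.mul (.mul (.mul (.mul (.mul (.mul (.pow (.mul (.l 1) (.l 2)) 4) (.pow (.mul (.l 1) (.inv (.l 2))) 2)) (.l 1)) (.l 2)) (.pow (.mul (.l 1) (.inv (.l 2))) 2)) (.pow (.mul (.l 1) (.l 2)) 2)) (.l 1)) (.inv (.l 2))) (.pow (.mul (.l 1) (.l 2)) 2)) (.l 1)) (.inv (.l 2))) (.pow (.mul (.l 1) (.l 2)) 2)) (.pow (.mul (.l 1) (.inv (.l 2))) 3)) (.l 1)) (.l 2)) (.pow (.mul (.l 1) (.inv (.l 2))) 2)) (.l 1)) (.l 2)) (.pow (.mul (.l 1) (.inv (.l 2))) 2)) (.l 1)) (.l 2)) (.pow (.mul (.l 1) (.inv (.l 2))) 2)) (.pow (.mul (.l 1) (.l 2)) 2)) (.l 1)) (.inv (.l 2)), .mul (.mul (.mul (.mul (.mul (.mul (.mul (.mul (.mul (.mul (.mul (.mul (.mul (.mul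 (.mul (.mul (.mul (.mul (.mul (.mul (.mul (.mul (.mul (.mul (.pow (.mul (.l 1) (.l 2)) 4) (.pow (.mul (.l 1) (.inv (.l 2))) 2)) (.l 1)) (.l 2)) (.pow (.mul (.l 1) (.inv (.l 2))) 2)) (.l 1)) (.l 2)) (.pow (.mul (.l 1) (.inv (.l 2))) 2)) (.pow (.mul (.l 1) (.l 2)) 2)) (.pow (.mul (.l 1) (.inv (.l 2))) 2)) (.l 1)) (.l 2)) (.l 1)) (.inv (.l 2))) (.l 1)) (.l 2)) (.pow (.mul (.l 1) (.inv (.l 2))) 2)) (.l 1)) (.l 2)) (.l 1)) (.inv (.l 2))) (.pow (.mul (.l 1) (.l 2)) 3)) (.pow (.mul (.l 1) (.inv (.l 2))) 2)) (.pow (.mul (.l 1) (.l 2)) 2)) (.pow (.mul (.l 1) (.inv (.l 2))) 2), .mul (.mul (.mul (.mul (.mul (.mul (.mul (.mul (.mul (.mul (.mul (.mul (.mul (.mul (.mul (.mul (.mul (.mul (.mul (.mul (.mul (.mul (.mul (.mul (.mul (.mul (.mul (.mul (.mul (.mul (.mul (.mul (.mul (.mul (.mul (.mul (.pow (.mul (.l 1) (.l 2)) 3) (.l 1)) (.inv (.l 2))) (.pow (.mul (.l 1) (.l 2)) 3)) (.pow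 (.mul (.l 1) (.inv (.l 2))) 3)) (.l 1)) (.l 2)) (.l 1)) (.inv (.l 2))) (.pow (.mul (.l 1) (.l 2)) 2)) (.l 1)) (.inv (.l 2))) (.l 1)) (.l 2)) (.l 1)) (.inv (.l 2))) (.pow (.mul (.l 1) (.l 2)) 2)) (.l 1)) (.inv (.l 2))) (.l 1)) (.l 2)) (.l 1)) (.inv (.l 2))) (.l 1)) (.l 2)) (.pow (.mul (.l 1) (.inv (.l 2))) 2)) (.l 1)) (.l 2)) (.l 1)) (.inv (.l 2))) (.l 1)) (.l 2)) (.l 1)) (.inv (.l 2))) (.l 1)) (.l 2)) (.pow (.mul (.l 1) (.inv (.l 2))) 2), .mul (.mul (.mul (.mul (.mul (.mul (.mul (.mul (.mul (.mul (.mul (.mul (.mul (.mul (.mul (.mul (.mul (.mul (.mul (.mul (.mul (.mul (.mul (.mul (.mul (.mul (.mul (.mul (.mul (.mul (.mul (.mul (.mul (.mul (.mul (.pow (.mul (.l 1) (.l 2)) 3) (.l 1)) (.inv (.l 2))) (.pow (.mul (.l 1) (.l 2)) 2)) (.l 1)) (.inv (.l 2))) (.pow (.mul (.l 1) (.l 2)) 2)) (.l 1)) (.inv (.l 2))) (.pow (.mul (.l 1) (.l 2)) 2)) (.l 1)) (.inv (.l 2))) (.l 1)) (.l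 2)) (.l 1)) (.inv (.l 2))) (.l 1)) (.l 2)) (.l 1)) (.inv (.l 2))) (.l 1)) (.l 2)) (.l 1)) (.inv (.l 2))) (.pow (.mul (.l 1) (.l 2)) 2)) (.l 1)) (.inv (.l 2))) (.l 1)) (.l 2)) (.pow (.mul (.l 1) (.inv (.l 2))) 2)) (.l 1)) (.l 2)) (.l 1)) (.inv (.l 2))) (.pow (.mul (.l 1) (.l 2)) 3)) (.pow (.mul (.l 1) (.inv (.l 2))) 2), .mul (.mul (.mul (.mul (.mul (.mul (.mul (.mul (.mul (.mul (.mul (.mul (.mul (.mul (.mul (.mul (.mul (.mul (.mul (.mul (.mul (.mul (.mul (.mul (.mul (.mul (.mul (.mul (.mul (.mul (.pow (.mul (.l 1) (.l 2)) 3) (.l 1)) (.inv (.l 2))) (.l 1)) (.l 2)) (.l 1)) (.inv (.l 2))) (.pow (.mul (.l 1) (.l 2)) 2)) (.l 1)) (.inv (.l 2))) (.l 1)) (.l 2)) (.pow (.mul (.l 1) (.inv (.l 2))) 2)) (.l 1)) (.l 2)) (.l 1)) (.inv (.l 2))) (.pow (.mul (.l 1) (.l 2)) 3)) (.pow (.mul (.l 1) (.inv (.l 2))) 2)) (.pow (.mul (.l 1) (.l 2)) 3)) (.l 1)) (.inv (.l 2))) (.l 1)) (.l 2))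 (.pow (.mul (.l 1) (.inv (.l 2))) 2)) (.pow (.mul (.l 1) (.l 2)) 2)) (.l 1)) (.inv (.l 2))) (.pow (.mul (.l 1) (.l 2)) 2)) (.l 1)) (.inv (.l 2)), .mul (.mul (.mul (.mul (.mul (.mul (.mul (.mul (.mul (.mul (.mul (.mul (.mul (.mul (.mul (.mul (.mul (.mul (.mul (.mul (.mul (.mul (.mul (.pow (.mul (.l 1) (.l 2)) 3) (.l 1)) (.inv (.l 2))) (.l 1)) (.l 2)) (.pow (.mul (.l 1) (.inv (.l 2))) 2)) (.l 1)) (.l 2)) (.pow (.mul (.l 1) (.inv (.l 2))) 2)) (.pow (.mul (.l 1) (.l 2)) 2)) (.l 1)) (.inv (.l 2))) (.pow (.mul (.l 1) (.l 2)) 2)) (.l 1)) (.inv (.l 2))) (.l 1)) (.l 2)) (.pow (.mul (.l 1) (.inv (.l 2))) 3)) (.pow (.mul (.l 1) (.l 2)) 2)) (.pow (.mul (.l 1) (.inv (.l 2))) 2)) (.pow (.mul (.l 1) (.l 2)) 2)) (.pow (.mul (.l 1) (.inv (.l 2))) 2)) (.pow (.mul (.l 1) (.l 2)) 2)) (.pow (.mul (.l 1) (.inv (.l 2))) 2), .mul (.mul (.mul (.mul (.mul (.mul (.mul (.mul (.mul (.mul (.mul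 (.mul (.mul (.mul (.mul (.mul (.mul (.mul (.mul (.pow (.mul (.l 1) (.l 2)) 3) (.pow (.mul (.l 1) (.inv (.l 2))) 2)) (.pow (.mul (.l 1) (.l 2)) 2)) (.l 1)) (.inv (.l 2))) (.pow (.mul (.l 1) (.l 2)) 2)) (.pow (.mul (.l 1) (.inv (.l 2))) 3)) (.pow (.mul (.l 1) (.l 2)) 2)) (.l 1)) (.inv (.l 2))) (.pow (.mul (.l 1) (.l 2)) 3)) (.pow (.mul (.l 1) (.inv (.l 2))) 2)) (.pow (.mul (.l 1) (.l 2)) 2)) (.l 1)) (.inv (.l 2))) (.pow (.mul (.l 1) (.l 2)) 2)) (.pow (.mul (.l 1) (.inv (.l 2))) 3)) (.pow (.mul (.l 1) (.l 2)) 2)) (.l 1)) (.inv (.l 2)), .mul (.mul (.mul (.mul (.mul (.mul (.mul (.mul (.mul (.mul (.mul (.mul (.mul (.mul (.mul (.mul (.mul (.mul (.mul (.mul (.mul (.mul (.mul (.mul (.mul (.mul (.mul (.mul (.mul (.mul (.mul (.mul (.mul (.mul (.mul (.mul (.mul (.mul (.mul (.mul (.mul (.pow (.mul (.l 1) (.l 2)) 3) (.pow (.mul (.l 1) (.inv (.l 2))) 2)) (.l 1)) (.l 2)) (.pow (.mul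 (.l 1) (.inv (.l 2))) 2)) (.pow (.mul (.l 1) (.l 2)) 2)) (.l 1)) (.inv (.l 2))) (.pow (.mul (.l 1) (.l 2)) 2)) (.pow (.mul (.l 1) (.inv (.l 2))) 3)) (.l 1)) (.l 2)) (.l 1)) (.inv (.l 2))) (.l 1)) (.l 2)) (.l 1)) (.inv (.l 2))) (.l 1)) (.l 2)) (.l 1)) (.inv (.l 2))) (.l 1)) (.l 2)) (.l 1)) (.inv (.l 2))) (.l 1)) (.l 2)) (.l 1)) (.inv (.l 2))) (.l 1)) (.l 2)) (.l 1)) (.inv (.l 2))) (.l 1)) (.l 2)) (.l 1)) (.inv (.l 2))) (.l 1)) (.l 2)) (.l 1)) (.inv (.l 2)), .mul (.mul (.mul (.mul (.mul (.mul (.mul (.mul (.mul (.mul (.mul (.mul (.mul (.mul (.mul (.mul (.mul (.mul (.mul (.mul (.mul (.mul (.mul (.mul (.mul (.mul (.mul (.mul (.pow (.mul (.l 1) (.l 2)) 3) (.pow (.mul (.l 1) (.inv (.l 2))) 2)) (.l 1)) (.l 2)) (.pow (.mul (.l 1) (.inv (.l 2))) 2)) (.l 1)) (.l 2)) (.pow (.mul (.l 1) (.inv (.l 2))) 2)) (.pow (.mul (.l 1) (.l 2)) 2)) (.l 1)) (.inv (.l 2))) (.pow (.mul (.l 1)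 (.l 2)) 2)) (.pow (.mul (.l 1) (.inv (.l 2))) 2)) (.l 1)) (.l 2)) (.l 1)) (.inv (.l 2))) (.pow (.mul (.l 1) (.l 2)) 2)) (.l 1)) (.inv (.l 2))) (.pow (.mul (.l 1) (.l 2)) 2)) (.l 1)) (.inv (.l 2))) (.l 1)) (.l 2)) (.pow (.mul (.l 1) (.inv (.l 2))) 2)) (.l 1)) (.l 2)) (.pow (.mul (.l 1) (.inv (.l 2))) 2), .mul (.mul (.mul (.mul (.mul (.mul (.mul (.mul (.mul (.mul (.mul (.pow (.mul (.l 1) (.l 2)) 2) (.l 1)) (.inv (.l 2))) (.pow (.mul (.l 1) (.l 2)) 2)) (.l 1)) (.inv (.l 2))) (.pow (.mul (.l 1) (.l 2)) 2)) (.l 1)) (.inv (.l 2))) (.l 1)) (.inv (.mul (.mul (.mul (.mul (.mul (.mul (.mul (.mul (.pow (.mul (.l 1) (.l 2)) 2) (.l 1)) (.inv (.l 2))) (.pow (.mul (.l 1) (.l 2)) 2)) (.l 1)) (.inv (.l 2))) (.pow (.mul (.l 1) (.l 2)) 2)) (.l 1)) (.inv (.l 2))))) (.l 1), .mul (.mul (.mul (.mul (.mul (.mul (.mul (.pow (.mul (.l 1) (.l 2)) 2) (.pow (.mul (.l 1) (.inv (.l 2))) 2)) (.pow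 (.mul (.l 1) (.l 2)) 2)) (.pow (.mul (.l 1) (.inv (.l 2))) 2)) (.pow (.mul (.l 1) (.l 2)) 2)) (.l 1)) (.inv (.mul (.mul (.mul (.mul (.pow (.mul (.l 1) (.l 2)) 2) (.pow (.mul (.l 1) (.inv (.l 2))) 2)) (.pow (.mul (.l 1) (.l 2)) 2)) (.pow (.mul (.l 1) (.inv (.l 2))) 2)) (.pow (.mul (.l 1) (.l 2)) 2)))) (.l 1), .mul (.mul (.mul (.mul (.mul (.mul (.mul (.mul (.mul (.mul (.mul (.mul (.mul (.mul (.pow (.mul (.l 1) (.l 2)) 2) (.l 1)) (.inv (.l 2))) (.l 1)) (.l 2)) (.pow (.mul (.l 1) (.inv (.l 2))) 2)) (.pow (.mul (.l 1) (.l 2)) 2)) (.l 1)) (.inv (.l 2))) (.l 1)) (.l 2)) (.pow (.mul (.l 1) (.inv (.l 2))) 2)) (.l 1)) (.inv (.mul (.mul (.mul (.mul (.mul (.mul (.mul (.mul (.mul (.mul (.mul (.pow (.mul (.l 1) (.l 2)) 2) (.l 1)) (.inv (.l 2))) (.l 1)) (.l 2)) (.pow (.mul (.l 1) (.inv (.l 2))) 2)) (.pow (.mul (.l 1) (.l 2)) 2)) (.l 1)) (.inv (.l 2))) (.l 1)) (.l 2)) (.pow (.mul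 (.l 1) (.inv (.l 2))) 2)))) (.l 1), .mul (.mul (.mul (.mul (.mul (.mul (.mul (.mul (.mul (.mul (.mul (.mul (.mul (.mul (.pow (.mul (.l 1) (.l 2)) 2) (.l 1)) (.inv (.l 2))) (.l 1)) (.l 2)) (.pow (.mul (.l 1) (.inv (.l 2))) 2)) (.l 1)) (.l 2)) (.pow (.mul (.l 1) (.inv (.l 2))) 2)) (.pow (.mul (.l 1) (.l 2)) 2)) (.l 1)) (.inv (.l 2))) (.l 1)) (.inv (.mul (.mul (.mul (.mul (.mul (.mul (.mul (.mul (.mul (.mul (.mul (.pow (.mul (.l 1) (.l 2)) 2) (.l 1)) (.inv (.l 2))) (.l 1)) (.l 2)) (.pow (.mul (.l 1) (.inv (.l 2))) 2)) (.l 1)) (.l 2)) (.pow (.mul (.l 1) (.inv (.l 2))) 2)) (.pow (.mul (.l 1) (.l 2)) 2)) (.l 1)) (.inv (.l 2))))) (.l 1), .mul (.mul (.mul (.mul (.mul (.mul (.mul (.mul (.mul (.mul (.mul (.mul (.mul (.mul (.mul (.mul (.mul (.mul (.mul (.mul (.mul (.mul (.mul (.mul (.mul (.mul (.l 1) (.l 2)) (.l 1)) (.inv (.l 2))) (.l 1)) (.l 2)) (.l 1)) (.inv (.l 2))) (.l 1))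 (.l 2)) (.l 1)) (.inv (.l 2))) (.l 1)) (.l 2)) (.l 1)) (.inv (.l 2))) (.l 1)) (.l 2)) (.l 1)) (.inv (.l 2))) (.l 1)) (.l 2)) (.l 1)) (.inv (.l 2))) (.l 1)) (.inv (.mul (.mul (.mul (.mul (.mul (.mul (.mul (.mul (.mul (.mul (.mul (.mul (.mul (.mul (.mul (.mul (.mul (.mul (.mul (.mul (.mul (.mul (.mul (.l 1) (.l 2)) (.l 1)) (.inv (.l 2))) (.l 1)) (.l 2)) (.l 1)) (.inv (.l 2))) (.l 1)) (.l 2)) (.l 1)) (.inv (.l 2))) (.l 1)) (.l 2)) (.l 1)) (.inv (.l 2))) (.l 1)) (.l 2)) (.l 1)) (.inv (.l 2))) (.l 1)) (.l 2)) (.l 1)) (.inv (.l 2))))) (.l 1), .mul (.mul (.mul (.mul (.mul (.mul (.mul (.mul (.mul (.mul (.mul (.mul (.mul (.mul (.l 1) (.l 2)) (.pow (.mul (.l 1) (.inv (.l 2))) 2)) (.pow (.mul (.l 1) (.l 2)) 2)) (.l 1)) (.inv (.l 2))) (.l 1)) (.l 2)) (.pow (.mul (.l 1) (.inv (.l 2))) 2)) (.pow (.mul (.l 1) (.l 2)) 2)) (.l 1)) (.inv (.l 2))) (.l 1)) (.inv (.mul (.mul (.mul (.mul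 (.mul (.mul (.mul (.mul (.mul (.mul (.mul (.l 1) (.l 2)) (.pow (.mul (.l 1) (.inv (.l 2))) 2)) (.pow (.mul (.l 1) (.l 2)) 2)) (.l 1)) (.inv (.l 2))) (.l 1)) (.l 2)) (.pow (.mul (.l 1) (.inv (.l 2))) 2)) (.pow (.mul (.l 1) (.l 2)) 2)) (.l 1)) (.inv (.l 2))))) (.l 1), .mul (.mul (.mul (.mul (.mul (.mul (.mul (.mul (.mul (.mul (.mul (.mul (.l 1) (.l 2)) (.pow (.mul (.l 1) (.inv (.l 2))) 2)) (.l 1)) (.l 2)) (.l 1)) (.inv (.l 2))) (.pow (.mul (.l 1) (.l 2)) 3)) (.pow (.mul (.l 1) (.inv (.l 2))) 2)) (.pow (.mul (.l 1) (.l 2)) 2)) (.l 1)) (.inv (.mul (.mul (.mul (.mul (.mul (.mul (.mul (.mul (.mul (.l 1) (.l 2)) (.pow (.mul (.l 1) (.inv (.l 2))) 2)) (.l 1)) (.l 2)) (.l 1)) (.inv (.l 2))) (.pow (.mul (.l 1) (.l 2)) 3)) (.pow (.mul (.l 1) (.inv (.l 2))) 2)) (.pow (.mul (.l 1) (.l 2)) 2)))) (.l 1), .mul (.mul (.mul (.mul (.mul (.mul (.mul (.mul (.mul (.mul (.mul (.mul (.mul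 (.mul (.mul (.mul (.mul (.mul (.mul (.mul (.mul (.mul (.mul (.mul (.mul (.mul (.l 1) (.inv (.l 2))) (.l 1)) (.l 2)) (.l 1)) (.inv (.l 2))) (.l 1)) (.l 2)) (.l 1)) (.inv (.l 2))) (.l 1)) (.l 2)) (.l 1)) (.inv (.l 2))) (.l 1)) (.l 2)) (.l 1)) (.inv (.l 2))) (.l 1)) (.l 2)) (.l 1)) (.inv (.l 2))) (.l 1)) (.l 2)) (.l 1)) (.inv (.mul (.mul (.mul (.mul (.mul (.mul (.mul (.mul (.mul (.mul (.mul (.mul (.mul (.mul (.mul (.mul (.mul (.mul (.mul (.mul (.mul (.mul (.mul (.l 1) (.inv (.l 2))) (.l 1)) (.l 2)) (.l 1)) (.inv (.l 2))) (.l 1)) (.l 2)) (.l 1)) (.inv (.l 2))) (.l 1)) (.l 2)) (.l 1)) (.inv (.l 2))) (.l 1)) (.l 2)) (.l 1)) (.inv (.l 2))) (.l 1)) (.l 2)) (.l 1)) (.inv (.l 2))) (.l 1)) (.l 2)))) (.l 1), .mul (.mul (.mul (.mul (.mul (.mul (.mul (.mul (.mul (.mul (.mul (.mul (.mul (.mul (.mul (.mul (.mul (.mul (.mul (.l 1) (.inv (.l 2))) (.l 1)) (.l 2)) (.l 1)) (.inv (.l 2)))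 (.pow (.mul (.l 1) (.l 2)) 2)) (.l 1)) (.inv (.l 2))) (.l 1)) (.l 2)) (.pow (.mul (.l 1) (.inv (.l 2))) 2)) (.l 1)) (.l 2)) (.l 1)) (.inv (.l 2))) (.pow (.mul (.l 1) (.l 2)) 3)) (.l 1)) (.inv (.mul (.mul (.mul (.mul (.mul (.mul (.mul (.mul (.mul (.mul (.mul (.mul (.mul (.mul (.mul (.mul (.l 1) (.inv (.l 2))) (.l 1)) (.l 2)) (.l 1)) (.inv (.l 2))) (.pow (.mul (.l 1) (.l 2)) 2)) (.l 1)) (.inv (.l 2))) (.l 1)) (.l 2)) (.pow (.mul (.l 1) (.inv (.l 2))) 2)) (.l 1)) (.l 2)) (.l 1)) (.inv (.l 2))) (.pow (.mul (.l 1) (.l 2)) 3)))) (.l 1), .mul (.mul (.mul (.mul (.mul (.mul (.mul (.mul (.mul (.mul (.mul (.mul (.mul (.mul (.mul (.mul (.mul (.pow (.mul (.l 1) (.l 2)) 2) (.l 1)) (.inv (.l 2))) (.pow (.mul (.l 1) (.l 2)) 2)) (.l 1)) (.inv (.l 2))) (.l 1)) (.l 2)) (.pow (.mul (.l 1) (.inv (.l 2))) 2)) (.pow (.mul (.l 1) (.l 2)) 2)) (.l 1)) (.inv (.l 2))) (.pow (.mul (.l 1) (.l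 2)) 2)) (.l 1)) (.inv (.l 2))) (.l 1)) (.inv (.mul (.mul (.mul (.mul (.mul (.mul (.mul (.mul (.mul (.mul (.mul (.mul (.mul (.mul (.pow (.mul (.l 1) (.l 2)) 2) (.l 1)) (.inv (.l 2))) (.pow (.mul (.l 1) (.l 2)) 2)) (.l 1)) (.inv (.l 2))) (.l 1)) (.l 2)) (.pow (.mul (.l 1) (.inv (.l 2))) 2)) (.pow (.mul (.l 1) (.l 2)) 2)) (.l 1)) (.inv (.l 2))) (.pow (.mul (.l 1) (.l 2)) 2)) (.l 1)) (.inv (.l 2))))) (.l 1), .mul (.mul (.mul (.mul (.mul (.mul (.mul (.mul (.mul (.mul (.mul (.pow (.mul (.l 1) (.l 2)) 2) (.l 1)) (.inv (.l 2))) (.l 1)) (.l 2)) (.pow (.mul (.l 1) (.inv (.l 2))) 2)) (.pow (.mul (.l 1) (.l 2)) 5)) (.pow (.mul (.l 1) (.inv (.l 2))) 2)) (.pow (.mul (.l 1) (.l 2)) 2)) (.l 1)) (.inv (.mul (.mul (.mul (.mul (.mul (.mul (.mul (.mul (.pow (.mul (.l 1) (.l 2)) 2) (.l 1)) (.inv (.l 2))) (.l 1)) (.l 2)) (.pow (.mul (.l 1) (.inv (.l 2))) 2)) (.pow (.mul (.l 1) (.l 2))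 5)) (.pow (.mul (.l 1) (.inv (.l 2))) 2)) (.pow (.mul (.l 1) (.l 2)) 2)))) (.l 1)]

theorem ta_mems {G : Type*} [Group G] {γ : ℕ → G} (hL : Lab γ tcI) (hr : ∀ t ∈ tcR, t.ev γ = 1) {K : Subgroup G}
    (hK : ∀ t ∈ ([] : List W), t.ev γ ∈ K) :
    ∀ t ∈ ta_loops, t.ev γ ∈ K :=
  List.forall_mem_cons.2 ⟨ta_mem0 hL hr hK,
    List.forall_mem_cons.2 ⟨ta_mem1 hL hr hK,
    List.forall_mem_cons.2 ⟨ta_mem2 hL hr hK,
    List.forall_mem_cons.2 ⟨ta_mem3 hL hr hK,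
    List.forall_mem_cons.2 ⟨ta_mem4 hL hr hK,
    List.forall_mem_cons.2 ⟨ta_mem5 hL hr hK,
    List.forall_mem_cons.2 ⟨ta_mem6 hL hr hK,
    List.forall_mem_cons.2 ⟨ta_mem7 hL hr hK,
    List.forall_mem_cons.2 ⟨ta_mem8 hL hr hK,
    List.forall_mem_cons.2 ⟨ta_mem9 hL hr hK,
    List.forall_mem_cons.2 ⟨ta_mem10 hL hr hK,
    List.forall_mem_cons.2 ⟨ta_mem11 hL hr hK,
    List.forall_mem_cons.2 ⟨ta_mem12 hL hr hK,
    List.forall_mem_cons.2 ⟨ta_mem13 hL hr hK,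
    List.forall_mem_cons.2 ⟨ta_mem14 hL hr hK,
    List.forall_mem_cons.2 ⟨ta_mem15 hL hr hK,
    List.forall_mem_cons.2 ⟨ta_mem16 hL hr hK,
    List.forall_mem_cons.2 ⟨ta_mem17 hL hr hK,
    List.forall_mem_cons.2 ⟨ta_mem18 hL hr hK,
    List.forall_mem_cons.2 ⟨ta_mem19 hL hr hK,
    List.forall_mem_cons.2 ⟨ta_mem20 hL hr hK,
    List.forall_mem_cons.2 ⟨ta_mem21 hL hr hK,
    List.forall_mem_cons.2 ⟨ta_mem22 hL hr hK,
    List.forall_mem_cons.2 ⟨ta_mem23 hL hr hK,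
    List.forall_mem_cons.2 ⟨ta_mem24 hL hr hK,
    List.forall_mem_cons.2 ⟨ta_mem25 hL hr hK,
    List.forall_mem_cons.2 ⟨ta_mem26 hL hr hK,
    List.forall_mem_cons.2 ⟨ta_mem27 hL hr hK,
    List.forall_mem_cons.2 ⟨ta_mem28 hL hr hK,
    List.forall_mem_cons.2 ⟨ta_mem29 hL hr hK,
    List.forall_mem_cons.2 ⟨ta_mem30 hL hr hK,
    List.forall_mem_cons.2 ⟨ta_mem31 hL hr hK,
    List.forall_mem_cons.2 ⟨ta_mem32 hL hr hK,
    List.forall_mem_cons.2 ⟨ta_mem33 hL hr hK,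
    List.forall_mem_cons.2 ⟨ta_mem34 hL hr hK,
    List.forall_mem_cons.2 ⟨ta_mem35 hL hr hK,
    List.forall_mem_cons.2 ⟨ta_mem36 hL hr hK,
    List.forall_mem_cons.2 ⟨ta_mem37 hL hr hK,
    List.forall_mem_cons.2 ⟨ta_mem38 hL hr hK,
    List.forall_mem_cons.2 ⟨ta_mem39 hL hr hK,
    List.forall_mem_cons.2 ⟨ta_mem40 hL hr hK,
    List.forall_mem_cons.2 ⟨ta_mem41 hL hr hK,
    List.forall_mem_cons.2 ⟨ta_mem42 hL hr hK,
    List.forall_mem_cons.2 ⟨ta_mem43 hL hr hK,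
    List.forall_mem_cons.2 ⟨ta_mem44 hL hr hK,
    List.forall_mem_cons.2 ⟨ta_mem45 hL hr hK,
    List.forall_mem_cons.2 ⟨ta_mem46 hL hr hK,
    List.forall_mem_cons.2 ⟨ta_mem47 hL hr hK,
    List.forall_mem_cons.2 ⟨ta_mem48 hL hr hK,
    List.forall_mem_cons.2 ⟨ta_mem49 hL hr hK,
    List.forall_mem_cons.2 ⟨ta_mem50 hL hr hK,
    List.forall_mem_cons.2 ⟨ta_mem51 hL hr hK,
    fun _ h => absurd h List.not_mem_nil⟩⟩⟩⟩⟩⟩⟩⟩⟩⟩⟩⟩⟩⟩⟩⟩⟩⟩⟩⟩⟩⟩⟩⟩⟩⟩⟩⟩⟩⟩⟩⟩⟩⟩⟩⟩⟩⟩⟩⟩⟩⟩⟩⟩⟩⟩⟩⟩⟩⟩⟩⟩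

/-- More relators. -/
def tcS : List W := tcR ++ ta_loops.take 41

end Cfsg.Lib.J4
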